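import Mathlib
import Cfsg.Agent.Lib.Golay.Code

/-!
Certificates for extensions by an elementary abelian group of order 2 ^ 11: derivation loops give
linear equations on the tails of relations, and a change of lifts removes chosen tail coordinates.
-/

set_option autoImplicit false

namespace Cfsg.Agent.Lib.M23H2

open Finset
open Cfsg.Agent.Lib.Golay (combine)

/-- The module. -/
abbrev V : Type := Fin 11 → ZMod 2

/-- A binary digit as an element of the field with two elements. -/
def bv (m i : ℕ) : ZMod 2 := if m.testBit i then 1 else 0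

theorem bv_zero (i : ℕ) : bv 0 i = 0 := by simp [bv]

theorem bv_xor (a b i : ℕ) : bv (a ^^^ b) i = bv a i + bv b i := by
  unfold bv
  rw [Nat.testBit_xor]
  cases a.testBit i <;> cases b.testBit i <;> decide

theorem bv_two_pow (t i : ℕ) : bv (2 ^ t) i = if t = i then 1 else 0 := by
  simp [bv, Nat.testBit_two_pow]

/-- The value of a linear form given by a mask. -/
def dot (B m : ℕ) (f : ℕ → ZMod 2) : ZMod 2 := ∑ i ∈ range B, bv m i * f i

theorem dot_zero (B : ℕ) (f : ℕ → ZMod 2) : dot B 0 f = 0 := by simp [dot, bv_zero]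

theorem dot_xor (B a b : ℕ) (f : ℕ → ZMod 2) : dot B (a ^^^ b) f = dot B a f + dot B b f := by
  simp [dot, bv_xor, add_mul, Finset.sum_add_distrib]

theorem dot_two_pow {B t : ℕ} (ht : t < B) (f : ℕ → ZMod 2) : dot B (2 ^ t) f = f t := by
  simp [dot, bv_two_pow, ht]

theorem dot_congr {B m : ℕ} {f g : ℕ → ZMod 2} (h : ∀ i < B, f i = g i) :
    dot B m f = dot B m g :=
  Finset.sum_congr rfl fun i hi => by rw [h i (Finset.mem_range.mp hi)]

theorem dot_shift {B m k : ℕ} (hm : m < 2 ^ 11) (hk : 11 * k + 11 ≤ B) (f : ℕ → ZMod 2) :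
    dot B (m <<< (11 * k)) f = dot 11 m fun j => f (11 * k + j) := by
  have h0 : dot B (m <<< (11 * k)) f = ∑ i ∈ range (11 * k + 11), bv (m <<< (11 * k)) i * f i := by
    refine (Finset.sum_subset (Finset.range_mono hk) fun i _ hi => ?_).symm
    have h : bv (m <<< (11 * k)) i = 0 := by
      simp only [Finset.mem_range, not_lt] at hi
      rw [bv, Nat.testBit_shiftLeft, Nat.testBit_lt_two_pow
        (hm.trans_le (Nat.pow_le_pow_right (by norm_num) (by omega : 11 ≤ i - 11 * k)))]
      simp
    rw [h, zero_mul]
  rw [h0, Finset.sum_range_add]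
  have h1 : ∑ i ∈ range (11 * k), bv (m <<< (11 * k)) i * f i = 0 :=
    Finset.sum_eq_zero fun i hi => by
      simp only [Finset.mem_range] at hi
      simp [bv, Nat.testBit_shiftLeft, show ¬ 11 * k ≤ i by omega]
  rw [h1, zero_add]
  exact Finset.sum_congr rfl fun j _ => by simp [bv, Nat.testBit_shiftLeft]

/-- An additive map sends a selection to the sum over the selected entries. -/
theorem map_combine {M : Type*} [AddCommGroup M] [Module (ZMod 2) M] (F : ℕ → M) (h0 : F 0 = 0)
    (hx : ∀ a b, F (a ^^^ b) = F a + F b) : ∀ (L : List ℕ) (k : ℕ),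
    F (combine L k) = ∑ i ∈ range L.length, bv k i • F (L.getD i 0)
  | [], k => by simp [combine, h0]
  | r :: L, k => by
    rw [combine, hx, map_combine F h0 hx L (k / 2), List.length_cons, Finset.sum_range_succ',
      add_comm]
    congr 1
    · refine Finset.sum_congr rfl fun i _ => ?_
      simp [bv, Nat.testBit_succ]
    · rcases Nat.mod_two_eq_zero_or_one k with h | h <;> simp [bv, h, h0]

theorem dot_combine (B : ℕ) (L : List ℕ) (k : ℕ) (f : ℕ → ZMod 2) :
    dot B (combine L k) f = dot L.length k fun i => dot B (L.getD i 0) f :=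
  map_combine (fun m => dot B m f) (dot_zero B f) (fun a b => dot_xor B a b f) L k

/-- A vector as a function on all numbers. -/
def ext (u : V) (j : ℕ) : ZMod 2 := if h : j < 11 then u ⟨j, h⟩ else 0

theorem ext_val (u : V) (j : Fin 11) : ext u j = u j := by simp [ext, j.isLt]

/-- The coordinates 11 k, ..., 11 k + 10. -/
def slice (f : ℕ → ZMod 2) (k : ℕ) : V := fun j => f (11 * k + j)

/-! ### systems -/

/-- Generators with their matrices (rows, and the two look-up tables of the rows), and rules. -/
structure Sys where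
  rows : List (List ℕ)
  tabs : List (ℕ × ℕ)
  rules : List (List ℕ × List ℕ)

/-- The rows of the identity. -/
def idRows : List ℕ := [1, 2, 4, 8, 16, 32, 64, 128, 256, 512, 1024]

/-- A row times the matrix of a table. -/
def rmul (t : ℕ × ℕ) (r : ℕ) : ℕ :=
  ((t.1 >>> (11 * (r % 64))) % 2048) ^^^ ((t.2 >>> (11 * (r / 64))) % 2048)

theorem rmul_lt (t : ℕ × ℕ) (r : ℕ) : rmul t r < 2048 :=
  Nat.xor_lt_two_pow (n := 11) (Nat.mod_lt _ (by norm_num)) (Nat.mod_lt _ (by norm_num))

/-- The number of generators. -/
def Sys.ng (S : Sys) : ℕ := S.rows.length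

/-- The number of tail coordinates. -/
def Sys.nt (S : Sys) : ℕ := 11 * S.rules.length

/-- The rows of the action of a word. -/
def Sys.suff (S : Sys) (v : List ℕ) : List ℕ :=
  v.foldr (fun g M => M.map (rmul (S.tabs.getD g (0, 0)))) idRows

/-- The tables agree with the rows. -/
def Sys.tabsOK (S : Sys) : Bool :=
  (List.range S.ng).all fun g =>
    let t := S.tabs.getD g (0, 0)
    let R := S.rows.getD g []
    Nat.beq R.length 11 &&
      ((List.range 64).all fun r => Nat.beq ((t.1 >>> (11 * r)) % 2048) (combine R r)) &&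
      ((List.range 32).all fun r => Nat.beq ((t.2 >>> (11 * r)) % 2048) (combine R (64 * r)))

/-- All the letters are generators. -/
def Sys.wordOK (S : Sys) (w : List ℕ) : Bool := w.all fun g => Nat.blt g S.ng

/-- The rules use generators only. -/
def Sys.rulesOK (S : Sys) : Bool := S.rules.all fun p => S.wordOK p.1 && S.wordOK p.2

theorem Sys.suff_cons (S : Sys) (g : ℕ) (v : List ℕ) :
    S.suff (g :: v) = (S.suff v).map (rmul (S.tabs.getD g (0, 0))) := rfl

theorem Sys.length_suff (S : Sys) : ∀ v : List ℕ, (S.suff v).length = 11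
  | [] => rfl
  | g :: v => by rw [S.suff_cons, List.length_map, S.length_suff v]

theorem getD_map {α β : Type} (f : α → β) (L : List α) {i : ℕ} (hi : i < L.length) (a : α)
    (b : β) : (L.map f).getD i b = f (L.getD i a) := by
  simp [List.getD_eq_getElem?_getD, hi]

theorem Sys.suff_lt (S : Sys) : ∀ (v : List ℕ) (i : ℕ), (S.suff v).getD i 0 < 2 ^ 11
  | [], i => by
    show idRows.getD i 0 < 2 ^ 11
    by_cases hi : i < 11
    · revert i; decide
    · rw [List.getD_eq_default]
      · norm_num
      · exact Nat.le_of_not_lt hi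
  | g :: v, i => by
    by_cases hi : i < 11
    · rw [S.suff_cons, getD_map _ _ (by rw [S.length_suff]; exact hi) 0]
      exact rmul_lt _ _
    · rw [List.getD_eq_default _ _ (by rw [S.length_suff]; omega)]
      norm_num

theorem Sys.rmul_eq {S : Sys} (h : S.tabsOK = true) {g r : ℕ} (hg : g < S.ng) (hr : r < 2 ^ 11) :
    rmul (S.tabs.getD g (0, 0)) r = combine (S.rows.getD g []) r := by
  have h' := List.all_eq_true.mp h g (List.mem_range.mpr hg)
  simp only [Bool.and_eq_true, List.all_eq_true, List.mem_range, Nat.beq_eq] at h'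
  obtain ⟨⟨-, h1⟩, h2⟩ := h'
  have e : r = (r % 64) ^^^ (64 * (r / 64)) := by
    apply Nat.eq_of_testBit_eq
    intro i
    rw [Nat.testBit_xor, show (64 : ℕ) = 2 ^ 6 from rfl, Nat.testBit_mod_two_pow,
      Nat.testBit_two_pow_mul, Nat.testBit_div_two_pow]
    by_cases hi : i < 6
    · simp [hi, show ¬ 6 ≤ i by omega]
    · simp [hi, show 6 ≤ i by omega]
  rw [rmul, h1 _ (Nat.mod_lt _ (by norm_num)), h2 _ (by omega), ← Golay.combine_xor, ← e]

theorem Sys.length_rows {S : Sys} (h : S.tabsOK = true) {g : ℕ} (hg : g < S.ng) :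
    (S.rows.getD g []).length = 11 := by
  have h' := List.all_eq_true.mp h g (List.mem_range.mpr hg)
  simp only [Bool.and_eq_true, List.all_eq_true, List.mem_range, Nat.beq_eq] at h'
  exact h'.1.1

/-- The action of a generator on the module. -/
def Sys.act (S : Sys) (g : ℕ) (u : V) : V :=
  fun i => dot 11 ((S.rows.getD g []).getD i 0) (ext u)

/-- The action of a word. -/
def Sys.actW (S : Sys) (v : List ℕ) (u : V) : V := fun i => dot 11 ((S.suff v).getD i 0) (ext u)

theorem Sys.actW_nil (S : Sys) (u : V) : S.actW [] u = u := by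
  funext i
  have : ([] : List ℕ).foldr (fun g M => M.map (rmul (S.tabs.getD g (0, 0)))) idRows = idRows := rfl
  rw [Sys.actW, Sys.suff, this, show idRows.getD i.val 0 = 2 ^ i.val from by revert i; decide,
    dot_two_pow i.isLt, ext_val]

theorem Sys.actW_cons {S : Sys} (h : S.tabsOK = true) {g : ℕ} (hg : g < S.ng) (v : List ℕ) (u : V) :
    S.actW (g :: v) u = S.actW v (S.act g u) := by
  funext i
  rw [Sys.actW, S.suff_cons, getD_map _ _ (by rw [S.length_suff]; exact i.isLt) 0,
    Sys.rmul_eq h hg (S.suff_lt v i), dot_combine, Sys.length_rows h hg]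
  refine dot_congr fun j hj => ?_
  rw [ext, dif_pos hj]
  rfl

theorem Sys.actW_add (S : Sys) (v : List ℕ) (a b : V) :
    S.actW v (a + b) = S.actW v a + S.actW v b := by
  funext i
  simp only [Sys.actW, Pi.add_apply, dot, ← Finset.sum_add_distrib]
  refine Finset.sum_congr rfl fun j hj => ?_
  simp only [Finset.mem_range] at hj
  rw [ext, ext, ext, dif_pos hj, dif_pos hj, dif_pos hj, Pi.add_apply, mul_add]

/-- Sum of two lists of rows. -/
def addRows (a b : List ℕ) : List ℕ := List.zipWith (fun p q => p ^^^ q) a b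

theorem getD_addRows {a b : List ℕ} {i : ℕ} (ha : i < a.length) (hb : i < b.length) :
    (addRows a b).getD i 0 = a.getD i 0 ^^^ b.getD i 0 := by
  simp [addRows, List.getD_eq_getElem?_getD, ha, hb]

/-- Rows moved to the block of the given index. -/
def shiftRows (k : ℕ) (M : List ℕ) : List ℕ := M.map fun r => r <<< (11 * k)

/-- The zero rows. -/
def zeroRows : List ℕ := [0, 0, 0, 0, 0, 0, 0, 0, 0, 0, 0]

/-- A step: position, rule, direction. -/
abbrev Step : Type := ℕ × ℕ × Bool

/-- The rule of a step, in the direction of the step. -/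
def Sys.sides (S : Sys) (s : Step) : List ℕ × List ℕ :=
  bif s.2.2 then ((S.rules.getD s.2.1 ([], [])).2, (S.rules.getD s.2.1 ([], [])).1)
  else S.rules.getD s.2.1 ([], [])

/-- The result of a step. -/
def Sys.stepWord (S : Sys) (w : List ℕ) (s : Step) : Option (List ℕ) :=
  bif Nat.blt s.2.1 S.rules.length &&
      ((w.drop s.1).take (S.sides s).1.length == (S.sides s).1) then
    some (w.take s.1 ++ ((S.sides s).2 ++ w.drop (s.1 + (S.sides s).1.length)))
  else none

/-- Final word and the rows of the linear equation of a derivation. -/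
def Sys.run (S : Sys) : List ℕ → List Step → Option (List ℕ × List ℕ)
  | w, [] => some (w, zeroRows)
  | w, s :: ss =>
    match S.stepWord w s with
    | none => none
    | some w' =>
      match S.run w' ss with
      | none => none
      | some (w'', R) =>
        some (w'', addRows (shiftRows s.2.1 (S.suff (w.drop (s.1 + (S.sides s).1.length)))) R)

/-- A derivation loop with the rows of its equation. -/
structure Loop where
  word : List ℕ
  steps : List Step
  rows : List ℕ

/-- The check of a loop. -/
def Sys.loopOK (S : Sys) (l : Loop) : Bool :=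
  S.wordOK l.word &&
    match S.run l.word l.steps with
    | none => false
    | some (w, R) => (w == l.word) && (R == l.rows)

/-- The rows of the change of a word under a change of lifts. -/
def Sys.con (S : Sys) : List ℕ → List ℕ
  | [] => zeroRows
  | g :: v => addRows (shiftRows g (S.suff v)) (S.con v)

/-- The row of the change of a tail coordinate under a change of lifts. -/
def Sys.delta (S : Sys) (t : ℕ) : ℕ :=
  (S.con (S.rules.getD (t / 11) ([], [])).1).getD (t % 11) 0 ^^^
    (S.con (S.rules.getD (t / 11) ([], [])).2).getD (t % 11) 0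

theorem Sys.length_con (S : Sys) : ∀ v : List ℕ, (S.con v).length = 11
  | [] => rfl
  | g :: v => by
    simp [Sys.con, addRows, shiftRows, S.length_suff, S.length_con v]

theorem getD_shiftRows {M : List ℕ} {i k : ℕ} (hi : i < M.length) :
    (shiftRows k M).getD i 0 = M.getD i 0 <<< (11 * k) := getD_map _ _ hi 0 0

theorem dot_shift_suff (S : Sys) {B k : ℕ} (hk : 11 * k + 11 ≤ B) (v : List ℕ) (f : ℕ → ZMod 2)
    (i : Fin 11) :
    dot B ((shiftRows k (S.suff v)).getD i 0) f = S.actW v (slice f k) i := by
  rw [getD_shiftRows (by rw [S.length_suff]; exact i.isLt), dot_shift (S.suff_lt v i) hk,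
    Sys.actW]
  exact dot_congr fun j hj => by rw [ext, dif_pos hj]; rfl

theorem Sys.length_run (S : Sys) : ∀ (ss : List Step) (w w' : List ℕ) (R : List ℕ),
    S.run w ss = some (w', R) → R.length = 11
  | [], w, w', R, h => by
    simp only [Sys.run, Option.some.injEq, Prod.mk.injEq] at h
    rw [← h.2]; rfl
  | s :: ss, w, w', R, h => by
    simp only [Sys.run] at h
    split at h
    · simp at h
    · split at h
      · simp at h
      · next h2 =>
        simp only [Option.some.injEq, Prod.mk.injEq] at h
        rw [← h.2]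
        simp [addRows, shiftRows, S.length_suff, S.length_run ss _ _ _ h2]

/-! ### the meaning in a group -/

section group

variable {E : Type*} [Group E]

/-- A lift of the generators which conjugates the module as prescribed. -/
structure Real (S : Sys) (ι : V → E) (x : ℕ → E) : Prop where
  tabs : S.tabsOK = true
  rules : S.rulesOK = true
  add : ∀ a b, ι (a + b) = ι a * ι b
  comm : ∀ g < S.ng, ∀ u, ι u * x g = x g * ι (S.act g u)

/-- The value of a word. -/
def wp (x : ℕ → E) (w : List ℕ) : E := (w.map x).prod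

/-- The tails are as given by the coordinates `f`. -/
def Tails (S : Sys) (ι : V → E) (x : ℕ → E) (f : ℕ → ZMod 2) : Prop :=
  ∀ r < S.rules.length,
    wp x (S.rules.getD r ([], [])).1 = wp x (S.rules.getD r ([], [])).2 * ι (slice f r)

variable {S : Sys} {ι : V → E} {x : ℕ → E}

theorem Real.zero (hR : Real S ι x) : ι 0 = 1 := by
  have h := hR.add 0 0
  rw [add_zero] at h
  exact left_eq_mul.mp h

theorem add_self_V (u : V) : u + u = 0 := funext fun i => CharTwo.add_self_eq_zero (u i)

theorem Real.sq (hR : Real S ι x) (u : V) : ι u * ι u = 1 := by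
  rw [← hR.add, add_self_V, hR.zero]

theorem wp_cons (g : ℕ) (v : List ℕ) : wp x (g :: v) = x g * wp x v := by simp [wp]

theorem wp_append (u v : List ℕ) : wp x (u ++ v) = wp x u * wp x v := by simp [wp]

theorem Real.move (hR : Real S ι x) : ∀ (v : List ℕ), S.wordOK v = true → ∀ u : V,
    ι u * wp x v = wp x v * ι (S.actW v u)
  | [], _, u => by simp [wp, S.actW_nil]
  | g :: v, h, u => by
    simp only [Sys.wordOK, List.all_cons, Bool.and_eq_true, Nat.blt_eq] at h
    rw [wp_cons, ← mul_assoc, hR.comm g h.1, mul_assoc, hR.move v h.2, ← mul_assoc,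
      Sys.actW_cons hR.tabs h.1]

theorem sides_ok (hR : S.rulesOK = true) (s : Step) (hs : s.2.1 < S.rules.length) :
    S.wordOK (S.sides s).2 = true := by
  have h := List.all_eq_true.mp hR (S.rules.getD s.2.1 ([], [])) (by
    rw [List.getD_eq_getElem _ _ hs]; exact List.getElem_mem _)
  simp only [Bool.and_eq_true] at h
  unfold Sys.sides
  cases s.2.2
  · exact h.2
  · exact h.1

theorem wordOK_append {u v : List ℕ} :
    S.wordOK (u ++ v) = true ↔ S.wordOK u = true ∧ S.wordOK v = true := by
  simp [Sys.wordOK, List.all_append]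

theorem wordOK_drop {v : List ℕ} (h : S.wordOK v = true) (k : ℕ) : S.wordOK (v.drop k) = true := by
  rw [Sys.wordOK, List.all_eq_true] at h ⊢
  exact fun g hg => h g (List.mem_of_mem_drop hg)

theorem stepWord_spec {w w' : List ℕ} {s : Step} (h : S.stepWord w s = some w') :
    s.2.1 < S.rules.length ∧
      w = w.take s.1 ++ ((S.sides s).1 ++ w.drop (s.1 + (S.sides s).1.length)) ∧
      w' = w.take s.1 ++ ((S.sides s).2 ++ w.drop (s.1 + (S.sides s).1.length)) := by
  unfold Sys.stepWord at h
  cases hb : Nat.blt s.2.1 S.rules.length &&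
      ((w.drop s.1).take (S.sides s).1.length == (S.sides s).1)
  · rw [hb] at h; simp at h
  rw [hb] at h
  simp only [Bool.and_eq_true, Nat.blt_eq, beq_iff_eq] at hb
  simp only [cond_true, Option.some.injEq] at h
  refine ⟨hb.1, ?_, h.symm⟩
  generalize S.sides s = ab at hb ⊢
  calc w = w.take s.1 ++ w.drop s.1 := (List.take_append_drop _ _).symm
    _ = w.take s.1 ++ ((w.drop s.1).take ab.1.length ++ (w.drop s.1).drop ab.1.length) := by
        rw [List.take_append_drop (l := w.drop s.1)]
    _ = _ := by rw [hb.2, List.drop_drop]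

theorem stepWord_ok (hR : S.rulesOK = true) {w w' : List ℕ} {s : Step}
    (h : S.stepWord w s = some w') (hw : S.wordOK w = true) : S.wordOK w' = true := by
  obtain ⟨h1, h2, h3⟩ := stepWord_spec h
  rw [h2, wordOK_append, wordOK_append] at hw
  rw [h3, wordOK_append, wordOK_append]
  exact ⟨hw.1, sides_ok hR s h1, hw.2.2⟩

theorem Real.step (hR : Real S ι x) {f : ℕ → ZMod 2} (hf : Tails S ι x f) {w w' : List ℕ}
    {s : Step} (h : S.stepWord w s = some w') (hw : S.wordOK w = true) :
    wp x w = wp x w' * ι (S.actW (w.drop (s.1 + (S.sides s).1.length)) (slice f s.2.1)) := by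
  obtain ⟨h1, h2, h3⟩ := stepWord_spec h
  have hv := wordOK_drop hw (s.1 + (S.sides s).1.length)
  have hside : wp x (S.sides s).1 = wp x (S.sides s).2 * ι (slice f s.2.1) := by
    have e := hf _ h1
    unfold Sys.sides
    cases s.2.2
    · exact e
    · simp only [cond_true]
      rw [e, mul_assoc, hR.sq, mul_one]
  conv_lhs => rw [h2]
  rw [h3]
  simp only [wp_append, hside, mul_assoc]
  rw [hR.move _ hv]

theorem Real.run (hR : Real S ι x) {f : ℕ → ZMod 2} (hf : Tails S ι x f) :
    ∀ (ss : List Step) (w w' R : List ℕ), S.wordOK w = true → S.run w ss = some (w', R) →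
      wp x w = wp x w' * ι fun i => dot S.nt (R.getD i 0) f
  | [], w, w', R, _, h => by
    simp only [Sys.run, Option.some.injEq, Prod.mk.injEq] at h
    rw [← h.1, ← h.2]
    have : (fun i : Fin 11 => dot S.nt (zeroRows.getD i 0) f) = 0 := funext fun i => by
      rw [show zeroRows.getD i.val 0 = 0 from by revert i; decide, dot_zero]; rfl
    rw [this, hR.zero, mul_one]
  | s :: ss, w, w', R, hw, h => by
    simp only [Sys.run] at h
    split at h
    · simp at h
    next w₁ h1 =>
    split at h
    · simp at h
    next w₂ R₂ h2 =>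
    simp only [Option.some.injEq, Prod.mk.injEq] at h
    obtain ⟨rfl, rfl⟩ := h
    rw [hR.step hf h1 hw, hR.run hf ss w₁ w₂ R₂ (stepWord_ok hR.rules h1 hw) h2, mul_assoc,
      ← hR.add]
    congr 2
    funext i
    have hs := (stepWord_spec h1).1
    rw [getD_addRows (by simp [shiftRows, S.length_suff]) (by rw [S.length_run ss _ _ _ h2]; exact i.isLt),
      dot_xor, dot_shift_suff S (by unfold Sys.nt; omega), Pi.add_apply, add_comm]

/-- A checked loop kills its rows. -/
theorem Real.loop (hR : Real S ι x) (hinj : Function.Injective ι) {f : ℕ → ZMod 2}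
    (hf : Tails S ι x f) {l : Loop} (hl : S.loopOK l = true) :
    ∀ r ∈ l.rows, dot S.nt r f = 0 := by
  simp only [Sys.loopOK, Bool.and_eq_true] at hl
  obtain ⟨hw, hm⟩ := hl
  split at hm
  · simp at hm
  next w R h =>
  simp only [Bool.and_eq_true, beq_iff_eq] at hm
  obtain ⟨rfl, rfl⟩ := hm
  have e := hR.run hf _ _ _ _ hw h
  rw [left_eq_mul] at e
  have e' := hinj (e.trans hR.zero.symm)
  intro r hr
  obtain ⟨i, hi, rfl⟩ := List.getElem_of_mem hr
  have hlen : i < 11 := by rw [← S.length_run _ _ _ _ h]; exact hi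
  have := congrFun e' ⟨i, hlen⟩
  simp only [Pi.zero_apply, List.getD_eq_getElem _ _ hi] at this
  exact this

/-- The effect of a change of lifts on a word. -/
theorem Real.change (hR : Real S ι x) (μ : ℕ → ZMod 2) : ∀ (w : List ℕ), S.wordOK w = true →
    wp (fun g => x g * ι (slice μ g)) w =
      wp x w * ι fun i => dot (11 * S.ng) ((S.con w).getD i 0) μ
  | [], _ => by
    have : (fun i : Fin 11 => dot (11 * S.ng) (zeroRows.getD i 0) μ) = 0 := funext fun i => by
      rw [show zeroRows.getD i.val 0 = 0 from by revert i; decide, dot_zero]; rfl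
    simp only [Sys.con, this, hR.zero, wp, List.map_nil, List.prod_nil, mul_one]
  | g :: v, h => by
    simp only [Sys.wordOK, List.all_cons, Bool.and_eq_true, Nat.blt_eq] at h
    rw [wp_cons, hR.change μ v h.2, wp_cons, mul_assoc, ← mul_assoc (ι _), hR.move v h.2,
      mul_assoc (wp x v), ← hR.add, mul_assoc]
    congr 3
    funext i
    simp only [Sys.con]
    rw [getD_addRows (by simp [shiftRows, S.length_suff]) (by rw [S.length_con]; exact i.isLt),
      dot_xor, dot_shift_suff S (by omega), Pi.add_apply]

/-- Changed lifts still act as prescribed. -/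
theorem Real.change_real (hR : Real S ι x) (μ : ℕ → ZMod 2) :
    Real S ι fun g => x g * ι (slice μ g) where
  tabs := hR.tabs
  rules := hR.rules
  add := hR.add
  comm g hg u := by
    rw [← mul_assoc, hR.comm g hg, mul_assoc, ← hR.add, add_comm, hR.add, ← mul_assoc]

/-- The changed tails. -/
def newTail (S : Sys) (f μ : ℕ → ZMod 2) (t : ℕ) : ZMod 2 := f t + dot (11 * S.ng) (S.delta t) μ

theorem slice_newTail (f μ : ℕ → ZMod 2) (r : ℕ) :
    slice (newTail S f μ) r = slice f r +
      ((fun i : Fin 11 => dot (11 * S.ng) ((S.con (S.rules.getD r ([], [])).1).getD i 0) μ) +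
        fun i : Fin 11 => dot (11 * S.ng) ((S.con (S.rules.getD r ([], [])).2).getD i 0) μ) := by
  funext i
  have hd : (11 * r + i.val) / 11 = r := by omega
  have hm : (11 * r + i.val) % 11 = i.val := by omega
  simp [slice, newTail, Sys.delta, dot_xor, hd, hm]

theorem Real.change_tails (hR : Real S ι x) {f : ℕ → ZMod 2} (hf : Tails S ι x f)
    (μ : ℕ → ZMod 2) : Tails S ι (fun g => x g * ι (slice μ g)) (newTail S f μ) := by
  intro r hr
  have h := List.all_eq_true.mp hR.rules (S.rules.getD r ([], [])) (by
    rw [List.getD_eq_getElem _ _ hr]; exact List.getElem_mem _)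
  simp only [Bool.and_eq_true] at h
  rw [hR.change μ _ h.1, hR.change μ _ h.2, hf r hr, mul_assoc, mul_assoc, ← hR.add, ← hR.add,
    slice_newTail]
  congr 2
  generalize slice f r = a
  funext i
  simp only [Pi.add_apply]
  linear_combination -(CharTwo.add_self_eq_zero (dot (11 * S.ng)
    ((S.con (S.rules.getD r ([], [])).2).getD i.val 0) μ))

/-- The check of a right inverse of the change map on chosen coordinates. -/
def Sys.gaugeOK (S : Sys) (P Mr : List ℕ) : Bool :=
  Nat.beq Mr.length (11 * S.ng) && (List.range P.length).all fun q =>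
    Nat.beq (combine Mr (S.delta (P.getD q 0))) (2 ^ q)

/-- The chosen coordinates can be cleared. -/
theorem Real.exists_gauge (hR : Real S ι x) {f : ℕ → ZMod 2} (hf : Tails S ι x f) {P Mr : List ℕ}
    (h : S.gaugeOK P Mr = true) :
    ∃ μ, Real S ι (fun g => x g * ι (slice μ g)) ∧
      Tails S ι (fun g => x g * ι (slice μ g)) (newTail S f μ) ∧
      ∀ t ∈ P, newTail S f μ t = 0 := by
  simp only [Sys.gaugeOK, Bool.and_eq_true, List.all_eq_true, List.mem_range, Nat.beq_eq] at h
  refine ⟨fun k => dot P.length (Mr.getD k 0) fun q => f (P.getD q 0), hR.change_real _,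
    hR.change_tails hf _, fun t ht => ?_⟩
  obtain ⟨q, hq, rfl⟩ := List.getElem_of_mem ht
  have e := h.2 q hq
  rw [List.getD_eq_getElem _ _ hq] at e
  rw [newTail, ← h.1, ← dot_combine, e, dot_two_pow hq, List.getD_eq_getElem _ _ hq,
    CharTwo.add_self_eq_zero]

end group

/-! ### conclusions from equations -/

/-- A conclusion: the coordinate `t` equals the selected special coordinate, by a selection. -/
abbrev Target : Type := ℕ × Bool × ℕ

/-- The mask of a conclusion. -/
def tmask (kst : ℕ) (p : Target) : ℕ := 2 ^ p.1 ^^^ bif p.2.1 then 2 ^ kst else 0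

/-- The check of the conclusions. -/
def targetsOK (B kst : ℕ) (vecs : List ℕ) (T : List Target) : Bool :=
  Nat.blt kst B && T.all fun p => Nat.blt p.1 B && Nat.beq (combine vecs p.2.2) (tmask kst p)

theorem target_spec {B kst : ℕ} {vecs : List ℕ} {T : List Target}
    (h : targetsOK B kst vecs T = true) {f : ℕ → ZMod 2} (hv : ∀ r ∈ vecs, dot B r f = 0)
    {p : Target} (hp : p ∈ T) : f p.1 = if p.2.1 then f kst else 0 := by
  simp only [targetsOK, Bool.and_eq_true, List.all_eq_true, Nat.blt_eq, Nat.beq_eq] at h
  obtain ⟨h0, h1⟩ := h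
  obtain ⟨h2, h3⟩ := h1 p hp
  have e : dot B (tmask kst p) f = 0 := by
    rw [← h3, dot_combine, dot]
    refine Finset.sum_eq_zero fun i hi => ?_
    simp only [Finset.mem_range] at hi
    rw [List.getD_eq_getElem _ _ hi, hv _ (List.getElem_mem hi), mul_zero]
  rw [tmask, dot_xor, dot_two_pow h2] at e
  cases hb : p.2.1
  · rw [hb] at e
    simpa [dot_zero] using e
  · rw [hb, cond_true, dot_two_pow h0] at e
    simpa [CharTwo.add_eq_zero] using e

end Cfsg.Agent.Lib.M23H2
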