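import Cfsg.Agent.Lib.M23H2.Split
import Cfsg.Agent.Lib.M23H2.CocodeData

/-!
The certificate of the cocode module is correct (checked by the kernel).
-/

set_option autoImplicit false

namespace Cfsg.Agent.Lib.M23H2

/-- The masks of the equations. -/
def coVecs : List ℕ := coLoops.flatMap Loop.rows ++ coP.map (2 ^ ·)

theorem co_perms : permsOK coSys codes = true := by decide +kernel

theorem co_tabs : coSys.tabsOK = true := by decide +kernel

theorem co_rules : coSys.rulesOK = true := by decide +kernel

theorem co_table : coSys.tableOK codes 7 28 sylWords sylTable = true := by decide +kernel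

theorem co_gauge : coSys.gaugeOK coP coMr = true := by decide +kernel

theorem co_loops0 : coLoops0.all coSys.loopOK = true := by decide +kernel

theorem co_loops1 : coLoops1.all coSys.loopOK = true := by decide +kernel

theorem co_loops2 : coLoops2.all coSys.loopOK = true := by decide +kernel

theorem co_loops3 : coLoops3.all coSys.loopOK = true := by decide +kernel

theorem co_loops4 : coLoops4.all coSys.loopOK = true := by decide +kernel

theorem co_loops5 : coLoops5.all coSys.loopOK = true := by decide +kernel

theorem co_loops : ∀ l ∈ coLoops, coSys.loopOK l = true := by
  have h : coLoops.all coSys.loopOK = true := by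
    simp only [coLoops, List.all_append, co_loops0, co_loops1, co_loops2, co_loops3,
      co_loops4, co_loops5, Bool.and_self]
  exact List.all_eq_true.mp h

theorem co_targets0 : targetsOK coSys.nt coStar coVecs coTargets0 = true := by
  decide +kernel

theorem co_targets1 : targetsOK coSys.nt coStar coVecs coTargets1 = true := by
  decide +kernel

theorem co_targets2 : targetsOK coSys.nt coStar coVecs coTargets2 = true := by
  decide +kernel

theorem co_targets3 : targetsOK coSys.nt coStar coVecs coTargets3 = true := by
  decide +kernel

theorem co_targets4 : targetsOK coSys.nt coStar coVecs coTargets4 = true := by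
  decide +kernel

theorem co_targets : targetsOK coSys.nt coStar coVecs coTargets = true := by
  simp only [targetsOK, coTargets, List.all_append, Bool.and_eq_true]
  have h0 := co_targets0
  have h1 := co_targets1
  have h2 := co_targets2
  have h3 := co_targets3
  have h4 := co_targets4
  simp only [targetsOK, Bool.and_eq_true] at h0 h1 h2 h3 h4
  exact ⟨h0.1, ⟨⟨⟨⟨h0.2, h1.2⟩, h2.2⟩, h3.2⟩, h4.2⟩⟩

theorem co_cover : ((List.range (11 * 28)).all fun t =>
    Nat.beq t coStar || coP.contains t ||
      (coTargets.map Prod.fst).contains t) = true := by
  decide +kernel

end Cfsg.Agent.Lib.M23H2
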