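import Cfsg.Agent.Lib.M23H2.Module
import Cfsg.Agent.Lib.M23H2.CocodeCheck

/-!
Two non-split extensions of the point stabiliser by its cocode module are isomorphic.
-/

set_option autoImplicit false

namespace Cfsg.Agent.Lib.M23H2

open Cfsg
open Cfsg.Agent.Lib.Golay (combine enc inCode wordOfMask gperm oneCode idx)

/-- The unit word at the extra point. -/
noncomputable def eInf : Word := Pi.single none 1

/-- Membership of a mask in the kernel of the cocode map. -/
def coIn (m : ℕ) : Bool := inCode m || inCode (m ^^^ 2 ^ 23)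

/-- The kernel of the cocode map. -/
noncomputable def coK : AddSubgroup Word where
  carrier := {w | w ∈ golayCode ∨ w + eInf ∈ golayCode}
  zero_mem' := Or.inl (zero_mem _)
  add_mem' := by
    intro a b ha hb
    rcases ha with ha | ha <;> rcases hb with hb | hb
    · exact Or.inl (add_mem ha hb)
    · exact Or.inr (by rw [add_assoc]; exact add_mem ha hb)
    · exact Or.inr (by rw [add_right_comm]; exact add_mem ha hb)
    · refine Or.inl ?_
      have := add_mem ha hb
      rwa [show (a + eInf) + (b + eInf) = a + b from funext fun p => by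
        simp only [Pi.add_apply]
        linear_combination CharTwo.add_self_eq_zero (eInf p)] at this
  neg_mem' := fun h => by rwa [neg_eq_self_W]

theorem wordOfMask_two_pow23 : wordOfMask (2 ^ 23) = eInf := by
  funext p
  cases p with
  | none =>
    simp only [wordOfMask, idx, eInf, Nat.testBit_two_pow, Pi.single_eq_same]
    simp
  | some z =>
    rw [eInf, Pi.single_eq_of_ne (Option.some_ne_none z)]
    have : z.val < 23 := ZMod.val_lt z
    simp only [wordOfMask, idx, Nat.testBit_two_pow]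
    rw [if_neg]
    simp only [decide_eq_true_eq]
    omega

theorem coIn_mem {m : ℕ} (h : coIn m = true) : wordOfMask m ∈ coK := by
  simp only [coIn, Bool.or_eq_true] at h
  rcases h with h | h
  · exact Or.inl (Golay.wordOfMask_mem h)
  · refine Or.inr ?_
    rw [← wordOfMask_two_pow23, ← Golay.wordOfMask_xor]
    exact Golay.wordOfMask_mem h

theorem coIn_of_mem {m : ℕ} (hm : m < 2 ^ 24) (h : wordOfMask m ∈ coK) : coIn m = true := by
  simp only [coIn, Bool.or_eq_true]
  rcases h with h | h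
  · exact Or.inl ((Golay.wordOfMask_mem_iff hm).mp h)
  · refine Or.inr ((Golay.wordOfMask_mem_iff (Nat.xor_lt_two_pow (n := 24) hm (by norm_num))).mp ?_)
    rw [Golay.wordOfMask_xor, wordOfMask_two_pow23]
    exact h

theorem co_action : actionOK coSys coBasis codes invCodes coCols coIn = true := by
  decide +kernel

theorem co_rangeP : coP.all (fun p => Nat.blt p coSys.nt) = true := by decide +kernel

theorem co_basis : (Nat.beq coBasis.length 11 &&
    (List.range 24).all (fun p => (List.range 2048).any fun m => coIn (2 ^ p ^^^ combine coBasis m)) &&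
    (List.range 2048).all fun m => Nat.beq m 0 || (!coIn (combine coBasis m) &&
      Nat.blt (combine coBasis m) (2 ^ 24))) = true := by
  decide +kernel

/-- The certificate. -/
def coCert : Cert coSys codes coStar where
  P := coP
  Mr := coMr
  loops := coLoops
  targets := coTargets
  perms := co_perms
  tabs := co_tabs
  rules := co_rules
  gauge := co_gauge
  loopsOK := co_loops
  targetsOK := co_targets
  rangeP := co_rangeP

theorem co_length : coBasis.length = 11 := by decide +kernel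

attribute [local irreducible] coBasis enc combine coSys

theorem vword_coK_eq_zero {u : V} (h : vword coBasis u ∈ coK) : u = 0 := by
  have hb := co_basis
  simp only [Bool.and_eq_true, List.all_eq_true, List.mem_range, Bool.or_eq_true, Nat.beq_eq,
    Bool.not_eq_true', Nat.blt_eq] at hb
  obtain ⟨m, hm, rfl⟩ := exists_bv u
  rw [← wordOfMask_combine co_length] at h
  rcases hb.2 m hm with h4 | ⟨h4, h5⟩
  · subst h4; exact funext fun i => bv_zero i
  · rw [coIn_of_mem h5 h] at h4
    simp at h4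

theorem exists_vword (w : Word) : ∃ u : V, w - vword coBasis u ∈ coK := by
  classical
  have hb := co_basis
  simp only [Bool.and_eq_true, List.all_eq_true, List.mem_range, List.any_eq_true] at hb
  have hp : ∀ p : GolayPt, ∃ u : V, (Pi.single p 1 : Word) - vword coBasis u ∈ coK := by
    intro p
    obtain ⟨m, -, hm⟩ := hb.1.2 (idx p) (Golay.idx_lt p)
    refine ⟨fun i => bv m i, ?_⟩
    have e : (Pi.single p 1 : Word) = wordOfMask (2 ^ idx p) := by
      funext q
      simp only [wordOfMask, Nat.testBit_two_pow, decide_eq_true_eq, Golay.idx_injective.eq_iff]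
      rw [Pi.single_apply]
      by_cases h : q = p
      · simp [h]
      · simp [h, Ne.symm h]
    rw [e, ← wordOfMask_combine co_length, sub_eq_add_neg, neg_eq_self_W, ← Golay.wordOfMask_xor]
    exact coIn_mem hm
  choose u hu using hp
  refine ⟨∑ p, w p • u p, ?_⟩
  have e1 : w = ∑ p, w p • (Pi.single p 1 : Word) := by
    funext q
    simp only [Finset.sum_apply, Pi.smul_apply, Pi.single_apply, smul_eq_mul, mul_ite, mul_one,
      mul_zero, Finset.sum_ite_eq, Finset.mem_univ, if_true]
  let h : V →+ Word := AddMonoidHom.mk' (vword coBasis) (vword_add coBasis)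
  have hsm : ∀ (c : ZMod 2) (v : V), h (c • v) = c • h v := by
    intro c v
    rcases zmod2_cases c with rfl | rfl
    · rw [zero_smul, zero_smul, map_zero]
    · rw [one_smul, one_smul]
  have e2 : vword coBasis (∑ p, w p • u p) = ∑ p, w p • vword coBasis (u p) := by
    show h _ = _
    rw [map_sum]
    exact Finset.sum_congr rfl fun p _ => hsm _ _
  have e : w - vword coBasis (∑ p, w p • u p) =
      ∑ p, w p • ((Pi.single p 1 : Word) - vword coBasis (u p)) := by
    rw [e2]
    conv_lhs => arg 1; rw [e1]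
    rw [← Finset.sum_sub_distrib]
    exact Finset.sum_congr rfl fun p _ => (smul_sub _ _ _).symm
  rw [e]
  exact AddSubgroup.sum_mem _ fun p _ => smul_mem _ (hu p)

section one

variable {E : Type*} [Group E] (N : Subgroup E) (θ : Word →+ Additive ↥N)

/-- The module inside an extension. -/
def coIota (u : V) : E := ((θ (vword coBasis u)).toMul : E)

theorem coIota_add (a b : V) : coIota N θ (a + b) = coIota N θ a * coIota N θ b := by
  simp only [coIota, vword_add, map_add, toMul_add, Subgroup.coe_mul]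

variable {N θ} (hker : ∀ w, θ w = 0 ↔ w ∈ coK)

include hker

theorem coIota_inj : Function.Injective (coIota N θ) := by
  intro a b h
  have h1 : θ (vword coBasis a) = θ (vword coBasis b) := Additive.toMul.injective (Subtype.ext h)
  have h2 : a + b = 0 := vword_coK_eq_zero ((hker _).mp (by
    rw [vword_add, map_add, h1, ← map_add]
    rw [show vword coBasis b + vword coBasis b = 0 from funext fun p => CharTwo.add_self_eq_zero _,
      map_zero]))
  funext i
  exact CharTwo.add_eq_zero.mp (congrFun h2 i)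

theorem exists_coIota (w : Word) : ∃ u, coIota N θ u = ((θ w).toMul : E) := by
  obtain ⟨u, hu⟩ := exists_vword w
  refine ⟨u, ?_⟩
  have := (hker _).mpr hu
  rw [map_sub, sub_eq_zero] at this
  rw [coIota, this]

variable [N.Normal] (φ : E ⧸ N ≃* ↥Spor.M23) (hsurj : Function.Surjective θ)

include hsurj

theorem coIota_ker (k : E) : k ∈ (proj N φ).ker ↔ ∃ u, coIota N θ u = k := by
  rw [proj_ker]
  refine ⟨fun hk => ?_, fun ⟨u, hu⟩ => hu ▸ (Additive.toMul (θ (vword coBasis u))).2⟩
  obtain ⟨w, hw⟩ := hsurj (Additive.ofMul ⟨k, hk⟩)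
  obtain ⟨u, hu⟩ := exists_coIota hker w
  exact ⟨u, by rw [hu, hw]; rfl⟩

omit hsurj in
theorem coIota_comm
    (hθ : ∀ (g : E) (w : Word),
      ((θ (w ∘ ⇑(((φ (QuotientGroup.mk g) : ↥Spor.M23) : Equiv.Perm GolayPt)⁻¹))).toMul : E)
        = g * ((θ w).toMul : E) * g⁻¹)
    (g : ℕ) (hg : g < coSys.ng) (x : E) (u : V) (hx : proj N φ x = gperm (codes.getD g oneCode)) :
    coIota N θ u * x = x * coIota N θ (coSys.act g u) := by
  have ha := (hker _).mpr (action_spec co_perms co_length co_action (fun m => coIn_mem) hg u)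
  rw [map_sub, sub_eq_zero, ← hx] at ha
  have h1 := hθ x⁻¹ (vword coBasis u)
  rw [← proj_apply N φ, map_inv, inv_inv, ha, inv_inv] at h1
  simp only [coIota, h1, ← mul_assoc, mul_inv_cancel, one_mul]

end one

theorem co_value {f : ℕ → ZMod 2} (hf : coCert.value f) {t : ℕ} (ht : t < 11 * 28) :
    t = coStar ∨ f t = 0 ∨ f t = f coStar := by
  have h := List.all_eq_true.mp co_cover t (List.mem_range.mpr ht)
  simp only [Bool.or_eq_true, List.contains_iff_mem, Nat.beq_eq] at h
  rcases h with (h | h) | h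
  · exact Or.inl h
  · exact Or.inr (Or.inl (hf.1 _ h))
  · obtain ⟨p, hp, rfl⟩ := List.mem_map.mp h
    have := hf.2 p hp
    cases hb : p.2.1
    · rw [hb] at this; exact Or.inr (Or.inl (by simpa using this))
    · rw [hb] at this; exact Or.inr (Or.inr (by simpa using this))

theorem co_value_eq {f f' : ℕ → ZMod 2} (hf : coCert.value f) (hf' : coCert.value f')
    (hs : f coStar = f' coStar) {t : ℕ} (ht : t < 11 * 28) : f t = f' t := by
  have h := List.all_eq_true.mp co_cover t (List.mem_range.mpr ht)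
  simp only [Bool.or_eq_true, List.contains_iff_mem, Nat.beq_eq] at h
  rcases h with (h | h) | h
  · rw [h]; exact hs
  · rw [hf.1 _ h, hf'.1 _ h]
  · obtain ⟨p, hp, rfl⟩ := List.mem_map.mp h
    rw [hf.2 p hp, hf'.2 p hp, hs]

/-- A non-split extension has special coordinate one. -/
theorem co_star {E : Type*} [Group E] [Finite E] (N : Subgroup E) [N.Normal]
    (φ : E ⧸ N ≃* ↥Spor.M23) {θ : Word →+ Additive ↥N} (hsurj : Function.Surjective θ)
    (hker : ∀ w, θ w = 0 ↔ w ∈ coK) (hns : ∀ H : Subgroup E, H ⊓ N = ⊥ → H ⊔ N ≠ ⊤)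
    {x : ℕ → E} {f : ℕ → ZMod 2} (hR : Real coSys (coIota N θ) x)
    (hx : ∀ g, proj N φ (x g) = gperm (codes.getD g oneCode))
    (hf : Tails coSys (coIota N θ) x f) (hv : coCert.value f) : f coStar = 1 := by
  rcases zmod2_cases (f coStar) with h | h
  · exfalso
    have h0 : ∀ r < 28, slice f r = 0 := by
      intro r hr
      funext i
      rcases co_value hv (t := 11 * r + i) (by omega) with e | e | e <;>
        simp [slice, e, h]
    obtain ⟨H, hH⟩ := split_of_zero (proj N φ) (proj_range N φ) co_perms hR (coIota_inj hker)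
      (coIota_ker hker φ hsurj) hx hf co_table h0
    rw [proj_ker] at hH
    exact hns H (by rw [inf_comm]; exact hH.disjoint.eq_bot) (by rw [sup_comm]; exact hH.sup_eq_top)
  · exact h

theorem cocode_unique
    {E : Type*} [Group E] [Finite E] (N : Subgroup E) [N.Normal]
    (φ : E ⧸ N ≃* ↥Spor.M23) (θ : Word →+ Additive ↥N)
    (hsurj : Function.Surjective θ) (hker : ∀ w, θ w = 0 ↔ w ∈ coK)
    (hθ : ∀ (g : E) (w : Word),
      ((θ (w ∘ ⇑(((φ (QuotientGroup.mk g) : ↥Spor.M23) : Equiv.Perm GolayPt)⁻¹))).toMul : E)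
        = g * ((θ w).toMul : E) * g⁻¹)
    (hns : ∀ H : Subgroup E, H ⊓ N = ⊥ → H ⊔ N ≠ ⊤)
    {E' : Type*} [Group E'] [Finite E'] (N' : Subgroup E') [N'.Normal]
    (φ' : E' ⧸ N' ≃* ↥Spor.M23) (θ' : Word →+ Additive ↥N')
    (hsurj' : Function.Surjective θ') (hker' : ∀ w, θ' w = 0 ↔ w ∈ coK)
    (hθ' : ∀ (g : E') (w : Word),
      ((θ' (w ∘ ⇑(((φ' (QuotientGroup.mk g) : ↥Spor.M23) : Equiv.Perm GolayPt)⁻¹))).toMul : E')
        = g * ((θ' w).toMul : E') * g⁻¹)
    (hns' : ∀ H : Subgroup E', H ⊓ N' = ⊥ → H ⊔ N' ≠ ⊤) :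
    Nonempty (E ≃* E') := by
  classical
  obtain ⟨x, f, hR, hx, hf, hv⟩ := exists_normal coCert (proj N φ) (proj_range N φ)
    (coIota_inj hker) (coIota_add N θ) (coIota_ker hker φ hsurj) (coIota_comm hker φ hθ)
  obtain ⟨x', f', hR', hx', hf', hv'⟩ := exists_normal coCert (proj N' φ') (proj_range N' φ')
    (coIota_inj hker') (coIota_add N' θ') (coIota_ker hker' φ' hsurj') (coIota_comm hker' φ' hθ')
  have hs : f coStar = f' coStar := by
    rw [co_star N φ hsurj hker hns hR hx hf hv, co_star N' φ' hsurj' hker' hns' hR' hx' hf' hv']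
  -- the fibre product
  let P : Subgroup (E × E') :=
    MonoidHom.eqLocus ((proj N φ).comp (MonoidHom.fst E E')) ((proj N' φ').comp (MonoidHom.snd E E'))
  have hmemP : ∀ p : E × E', p ∈ P ↔ proj N φ p.1 = proj N' φ' p.2 := fun _ => Iff.rfl
  have hθN : ∀ w, proj N φ (θ w).toMul = 1 := fun w =>
    (MonoidHom.mem_ker (f := proj N φ)).mp (by rw [proj_ker]; exact (θ w).toMul.2)
  have hθN' : ∀ w, proj N' φ' (θ' w).toMul = 1 := fun w =>
    (MonoidHom.mem_ker (f := proj N' φ')).mp (by rw [proj_ker]; exact (θ' w).toMul.2)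
  let δ : Multiplicative Word →* P :=
    { toFun := fun w => ⟨(((θ w.toAdd).toMul : E), ((θ' w.toAdd).toMul : E')), by
        rw [hmemP, hθN, hθN']⟩
      map_one' := by simp
      map_mul' := fun a b => by simp }
  let D : Subgroup P := δ.range
  have hD : D.Normal := by
    refine ⟨?_⟩
    rintro _ ⟨w, rfl⟩ g
    refine ⟨Multiplicative.ofAdd (w.toAdd ∘ ⇑((proj N φ g.1.1)⁻¹)), Subtype.ext (Prod.ext ?_ ?_)⟩
    · exact hθ g.1.1 w.toAdd
    · show ((θ' (w.toAdd ∘ ⇑((proj N φ g.1.1)⁻¹))).toMul : E') = _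
      rw [(hmemP _).mp g.2]
      exact hθ' g.1.2 w.toAdd
  let q : P →* P ⧸ D := QuotientGroup.mk' D
  have hDker : D ≤ (((proj N φ).comp (MonoidHom.fst E E')).comp P.subtype).ker := by
    rintro _ ⟨w, rfl⟩
    exact hθN w.toAdd
  let πQ : P ⧸ D →* Equiv.Perm GolayPt := QuotientGroup.lift D _ hDker
  have hπq : ∀ p : P, πQ (q p) = proj N φ p.1.1 := fun _ => rfl
  have hπQ : πQ.range = Spor.M23 := by
    ext σ
    constructor
    · rintro ⟨y, rfl⟩
      obtain ⟨p, rfl⟩ := QuotientGroup.mk_surjective y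
      rw [← proj_range N φ]
      exact ⟨p.1.1, rfl⟩
    · intro hσ
      obtain ⟨e, he⟩ := MonoidHom.mem_range.mp ((proj_range N φ).symm ▸ hσ)
      obtain ⟨e', he'⟩ := MonoidHom.mem_range.mp ((proj_range N' φ').symm ▸ hσ)
      exact ⟨q ⟨(e, e'), by rw [hmemP, he, he']⟩, he⟩
  have hι1 : ∀ u, proj N φ (coIota N θ u) = proj N' φ' 1 := fun u => by rw [map_one]; exact hθN _
  let ιQ : V → P ⧸ D := fun u => q ⟨(coIota N θ u, 1), (hmemP _).mpr (hι1 u)⟩
  have hxP : ∀ g, (x g, x' g) ∈ P := fun g => (hmemP _).mpr (by rw [hx, hx'])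
  let xQ : ℕ → P ⧸ D := fun g => q ⟨(x g, x' g), hxP g⟩
  have hRQ : Real coSys ιQ xQ := by
    refine ⟨co_tabs, co_rules, fun a b => ?_, fun g hg u => ?_⟩
    · simp only [ιQ, ← map_mul]
      congr 1
      exact Subtype.ext (Prod.ext (coIota_add N θ a b) (one_mul 1).symm)
    · simp only [ιQ, xQ, ← map_mul]
      congr 1
      exact Subtype.ext (Prod.ext (hR.comm g hg u) (by simp))
  have hmemD : ∀ p : P, p ∈ D → ∃ w, p.1 = (((θ w).toMul : E), ((θ' w).toMul : E')) := by
    rintro _ ⟨w, rfl⟩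
    exact ⟨w.toAdd, rfl⟩
  have hinjQ : Function.Injective ιQ := by
    intro a b h
    have h1 : ιQ (a + b) = 1 := by
      rw [hRQ.add, h, ← hRQ.add, add_self_V, hRQ.zero]
    obtain ⟨w, hw⟩ := hmemD _ ((QuotientGroup.eq_one_iff _).mp h1)
    have hw2 : θ' w = 0 := Additive.toMul.injective (Subtype.ext (congrArg Prod.snd hw).symm)
    have hw1 : coIota N θ (a + b) = 1 := by
      rw [show coIota N θ (a + b) = _ from congrArg Prod.fst hw,
        (hker w).mpr ((hker' w).mp hw2)]
      rfl
    have h0 : a + b = 0 := coIota_inj hker (hw1.trans hR.zero.symm)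
    funext i
    exact CharTwo.add_eq_zero.mp (congrFun h0 i)
  have hkerQ : ∀ k, k ∈ πQ.ker ↔ ∃ u, ιQ u = k := by
    intro k
    constructor
    · intro hk
      obtain ⟨⟨⟨e, e'⟩, hp⟩, rfl⟩ := QuotientGroup.mk_surjective k
      have he : e ∈ (proj N φ).ker := hk
      have he' : e' ∈ (proj N' φ').ker := by
        rw [MonoidHom.mem_ker]
        exact ((hmemP _).mp hp).symm.trans he
      rw [proj_ker] at he he'
      obtain ⟨a, ha⟩ := hsurj (Additive.ofMul ⟨e, he⟩)
      obtain ⟨b, hb⟩ := hsurj' (Additive.ofMul ⟨e', he'⟩)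
      obtain ⟨u, hu⟩ := exists_coIota hker (a - b)
      refine ⟨u, ?_⟩
      have hd : q (δ (Multiplicative.ofAdd b)) = 1 := (QuotientGroup.eq_one_iff _).mpr ⟨_, rfl⟩
      rw [← mul_one (ιQ u), ← hd]
      show q _ * q _ = q _
      rw [← map_mul]
      congr 1
      refine Subtype.ext (Prod.ext ?_ ?_)
      · show coIota N θ u * ((θ b).toMul : E) = e
        rw [hu, ← Subgroup.coe_mul, ← toMul_add, ← map_add, sub_add_cancel, ha]
        rfl
      · show (1 : E') * ((θ' b).toMul : E') = e'
        rw [one_mul, hb]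
        rfl
    · rintro ⟨u, rfl⟩
      exact hθN _
  have hwp : ∀ w : List ℕ, ∃ h, wp xQ w = q ⟨(wp x w, wp x' w), h⟩ := by
    intro w
    induction w with
    | nil => exact ⟨P.one_mem, (map_one q).symm⟩
    | cons g v ih =>
      obtain ⟨h, hv'⟩ := ih
      refine ⟨by rw [wp_cons, wp_cons]; exact P.mul_mem (hxP g) h, ?_⟩
      rw [wp_cons, hv', ← map_mul]
      exact congrArg q (Subtype.ext (Prod.ext (wp_cons g v).symm (wp_cons g v).symm))
  let fQ : ℕ → ZMod 2 := fun t => f t + f' t
  have hfQ : Tails coSys ιQ xQ fQ := by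
    intro r hr
    obtain ⟨h1, e1⟩ := hwp (coSys.rules.getD r ([], [])).1
    obtain ⟨h2, e2⟩ := hwp (coSys.rules.getD r ([], [])).2
    rw [e1, e2]
    have hd : q (δ (Multiplicative.ofAdd (vword coBasis (slice f' r)))) = 1 :=
      (QuotientGroup.eq_one_iff _).mpr ⟨_, rfl⟩
    rw [← mul_one (ιQ (slice fQ r)), ← hd]
    show q _ = q _ * (q _ * q _)
    rw [← map_mul, ← map_mul]
    congr 1
    refine Subtype.ext (Prod.ext ?_ ?_)
    · show wp x _ = wp x _ * (coIota N θ (slice fQ r) * coIota N θ (slice f' r))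
      rw [← coIota_add, hf r hr]
      congr 2
      funext i
      simp only [slice, fQ, Pi.add_apply]
      linear_combination -(CharTwo.add_self_eq_zero (f' (11 * r + i.val)))
    · show wp x' _ = wp x' _ * (1 * coIota N' θ' (slice f' r))
      rw [one_mul, hf' r hr]
  have h0 : ∀ r < 28, slice fQ r = 0 := by
    intro r hr
    funext i
    simp only [slice, fQ, Pi.zero_apply]
    rw [co_value_eq hv hv' hs (t := 11 * r + i) (by omega), CharTwo.add_self_eq_zero]
  obtain ⟨H, hH⟩ := split_of_zero πQ hπQ co_perms hRQ hinjQ hkerQ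
    (fun g => (hπq _).trans (hx g)) hfQ co_table h0
  let H' : Subgroup P := H.comap q
  let pr1 : H' →* E := ((MonoidHom.fst E E').comp P.subtype).comp H'.subtype
  let pr2 : H' →* E' := ((MonoidHom.snd E E').comp P.subtype).comp H'.subtype
  have hker1 : ∀ h : H', (h.1 : P).1.1 ∈ (proj N φ).ker → q h.1 = 1 := by
    intro h hk
    have h1 : q h.1 ∈ H ⊓ πQ.ker := ⟨h.2, hk⟩
    rw [inf_comm, hH.disjoint.eq_bot] at h1
    exact Subgroup.mem_bot.mp h1
  have hinj1 : Function.Injective pr1 := by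
    rw [injective_iff_map_eq_one]
    intro h hh
    obtain ⟨w, hw⟩ := hmemD _ ((QuotientGroup.eq_one_iff _).mp (hker1 h (by
      rw [MonoidHom.mem_ker, show (h.1 : P).1.1 = 1 from hh, map_one])))
    have h1 : θ w = 0 := Additive.toMul.injective (Subtype.ext ((congrArg Prod.fst hw).symm.trans hh))
    refine Subtype.ext (Subtype.ext (Prod.ext hh ?_))
    rw [show (h.1 : P).1.2 = _ from congrArg Prod.snd hw, (hker' w).mpr ((hker w).mp h1)]
    rfl
  have hinj2 : Function.Injective pr2 := by
    rw [injective_iff_map_eq_one]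
    intro h hh
    obtain ⟨w, hw⟩ := hmemD _ ((QuotientGroup.eq_one_iff _).mp (hker1 h (by
      rw [MonoidHom.mem_ker, (hmemP _).mp h.1.2, show (h.1 : P).1.2 = 1 from hh, map_one])))
    have h1 : θ' w = 0 :=
      Additive.toMul.injective (Subtype.ext ((congrArg Prod.snd hw).symm.trans hh))
    refine Subtype.ext (Subtype.ext (Prod.ext ?_ hh))
    rw [show (h.1 : P).1.1 = _ from congrArg Prod.fst hw, (hker w).mpr ((hker' w).mp h1)]
    rfl
  have hsplit : ∀ p : P, ∃ k ∈ πQ.ker, k * q p ∈ H := by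
    intro p
    obtain ⟨⟨⟨k, hk⟩, h⟩, hkh⟩ := hH.2 (q p)
    refine ⟨k⁻¹, inv_mem hk, ?_⟩
    simp only at hkh
    rw [← hkh, inv_mul_cancel_left]
    exact h.2
  have hsurj2 : Function.Surjective pr2 := by
    intro e'
    obtain ⟨e, he⟩ := MonoidHom.mem_range.mp
      ((proj_range N φ).symm ▸ (proj_range N' φ' ▸ ⟨e', rfl⟩ : proj N' φ' e' ∈ Spor.M23))
    obtain ⟨k, hk, hkp⟩ := hsplit ⟨(e, e'), (hmemP _).mpr he⟩
    obtain ⟨u, rfl⟩ := (hkerQ k).mp hk
    rw [← map_mul] at hkp
    exact ⟨⟨_, hkp⟩, one_mul e'⟩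
  have hsurj1 : Function.Surjective pr1 := by
    intro e
    obtain ⟨e', he'⟩ := MonoidHom.mem_range.mp
      ((proj_range N' φ').symm ▸ (proj_range N φ ▸ ⟨e, rfl⟩ : proj N φ e ∈ Spor.M23))
    obtain ⟨k, hk, hkp⟩ := hsplit ⟨(e, e'), (hmemP _).mpr he'.symm⟩
    obtain ⟨u, rfl⟩ := (hkerQ k).mp hk
    have hd : q (δ (Multiplicative.ofAdd (vword coBasis u))) = 1 :=
      (QuotientGroup.eq_one_iff _).mpr ⟨_, rfl⟩
    rw [← one_mul (ιQ u * _), ← hd] at hkp
    change q _ * (q _ * q _) ∈ H at hkp
    rw [← map_mul, ← map_mul, ← mul_assoc] at hkp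
    refine ⟨⟨_, hkp⟩, ?_⟩
    show coIota N θ u * coIota N θ u * e = e
    rw [hR.sq, one_mul]
  exact ⟨(MulEquiv.ofBijective pr1 ⟨hinj1, hsurj1⟩).symm.trans
    (MulEquiv.ofBijective pr2 ⟨hinj2, hsurj2⟩)⟩

end Cfsg.Agent.Lib.M23H2
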