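import Cfsg.Agent.Lib.M23H2.Split
import Cfsg.Agent.Lib.M23H2.CodeData

/-!
The certificate of the code module is correct (checked by the kernel).
-/

set_option autoImplicit false

namespace Cfsg.Agent.Lib.M23H2

/-- The masks of the equations. -/
def codeVecs : List ℕ := codeLoops.flatMap Loop.rows ++ codeP.map (2 ^ ·)

theorem code_perms : permsOK codeSys codes = true := by decide +kernel

theorem code_tabs : codeSys.tabsOK = true := by decide +kernel

theorem code_rules : codeSys.rulesOK = true := by decide +kernel

theorem code_table : codeSys.tableOK codes 7 28 sylWords sylTable = true := by decide +kernel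

theorem code_gauge : codeSys.gaugeOK codeP codeMr = true := by decide +kernel

theorem code_loops0 : codeLoops0.all codeSys.loopOK = true := by decide +kernel

theorem code_loops1 : codeLoops1.all codeSys.loopOK = true := by decide +kernel

theorem code_loops2 : codeLoops2.all codeSys.loopOK = true := by decide +kernel

theorem code_loops3 : codeLoops3.all codeSys.loopOK = true := by decide +kernel

theorem code_loops4 : codeLoops4.all codeSys.loopOK = true := by decide +kernel

theorem code_loops5 : codeLoops5.all codeSys.loopOK = true := by decide +kernel

theorem code_loops : ∀ l ∈ codeLoops, codeSys.loopOK l = true := by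
  have h : codeLoops.all codeSys.loopOK = true := by
    simp only [codeLoops, List.all_append, code_loops0, code_loops1, code_loops2, code_loops3,
      code_loops4, code_loops5, Bool.and_self]
  exact List.all_eq_true.mp h

theorem code_targets0 : targetsOK codeSys.nt codeStar codeVecs codeTargets0 = true := by
  decide +kernel

theorem code_targets1 : targetsOK codeSys.nt codeStar codeVecs codeTargets1 = true := by
  decide +kernel

theorem code_targets2 : targetsOK codeSys.nt codeStar codeVecs codeTargets2 = true := by
  decide +kernel

theorem code_targets3 : targetsOK codeSys.nt codeStar codeVecs codeTargets3 = true := by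
  decide +kernel

theorem code_targets4 : targetsOK codeSys.nt codeStar codeVecs codeTargets4 = true := by
  decide +kernel

theorem code_targets : targetsOK codeSys.nt codeStar codeVecs codeTargets = true := by
  simp only [targetsOK, codeTargets, List.all_append, Bool.and_eq_true]
  have h0 := code_targets0
  have h1 := code_targets1
  have h2 := code_targets2
  have h3 := code_targets3
  have h4 := code_targets4
  simp only [targetsOK, Bool.and_eq_true] at h0 h1 h2 h3 h4
  exact ⟨h0.1, ⟨⟨⟨⟨h0.2, h1.2⟩, h2.2⟩, h3.2⟩, h4.2⟩⟩

theorem code_cover : ((List.range (11 * 28)).all fun t =>
    codeP.contains t ||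
      (codeTargets.map Prod.fst).contains t) = true := by
  decide +kernel

end Cfsg.Agent.Lib.M23H2
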