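import Cfsg.Agent.Lib.M23H2.Module
import Cfsg.Agent.Lib.M23H2.CodeCheck

/-!
Every extension of the point stabiliser by its code module splits.
-/

set_option autoImplicit false

namespace Cfsg.Agent.Lib.M23H2

open Cfsg
open Cfsg.Agent.Lib.Golay (combine enc inCode wordOfMask gperm oneCode)

theorem code_action :
    actionOK codeSys codeBasis codes invCodes codeCols (fun m => Nat.beq m 0) = true := by
  decide +kernel

theorem code_rangeP : codeP.all (fun p => Nat.blt p codeSys.nt) = true := by decide +kernel

theorem code_basis : (Nat.beq codeBasis.length 11 &&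
    (List.range 11).all (fun i => inCode (codeBasis.getD i 0) && !(codeBasis.getD i 0).testBit 23) &&
    (List.range 4096).all (fun k =>
      (enc k).testBit 23 || Nat.beq (enc k) (combine codeBasis (k / 2))) &&
    (List.range 2048).all fun m => Nat.beq m 0 || (!Nat.beq (combine codeBasis m) 0 &&
      Nat.blt (combine codeBasis m) (2 ^ 24))) = true := by
  decide +kernel

/-- The certificate. -/
def codeCert : Cert codeSys codes codeStar where
  P := codeP
  Mr := codeMr
  loops := codeLoops
  targets := codeTargets
  perms := code_perms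
  tabs := code_tabs
  rules := code_rules
  gauge := code_gauge
  loopsOK := code_loops
  targetsOK := code_targets
  rangeP := code_rangeP

theorem code_targets_false : codeTargets.all (fun p => !p.2.1) = true := by decide +kernel

attribute [local irreducible] codeBasis enc combine codeSys in
theorem code_split {E : Type*} [Group E] [Finite E] (N : Subgroup E) [hN : N.Normal]
    (φ : E ⧸ N ≃* ↥Spor.M23)
    (ψ : Additive ↥N →+ (GolayPt → ZMod 2)) (hinj : Function.Injective ψ)
    (hrange : ∀ w : GolayPt → ZMod 2, w ∈ Set.range ψ ↔ (w ∈ golayCode ∧ w none = 0))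
    (hψ : ∀ (g : E) (n : ↥N),
      ψ (Additive.ofMul ⟨g * n * g⁻¹, hN.conj_mem n n.2 g⟩)
        = ψ (Additive.ofMul n) ∘ ⇑(((φ (QuotientGroup.mk g) : ↥Spor.M23) : Equiv.Perm GolayPt)⁻¹)) :
    ∃ H : Subgroup E, H ⊓ N = ⊥ ∧ H ⊔ N = ⊤ := by
  classical
  have hb := code_basis
  simp only [Bool.and_eq_true, List.all_eq_true, List.mem_range, Nat.beq_eq, Bool.or_eq_true,
    Bool.not_eq_true', Nat.blt_eq] at hb
  obtain ⟨⟨⟨hlen, hmem⟩, hall⟩, hne⟩ := hb
  have hin : ∀ u : V, vword codeBasis u ∈ Set.range ψ := by
    intro u
    refine (hrange _).mpr ⟨Submodule.sum_mem _ fun i _ => Submodule.smul_mem _ _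
      (Golay.wordOfMask_mem (hmem i i.isLt).1), ?_⟩
    simp only [vword, Finset.sum_apply, Pi.smul_apply]
    refine Finset.sum_eq_zero fun i _ => ?_
    have h := (hmem i i.isLt).2
    simp only [wordOfMask, Golay.idx, h]
    simp
  choose n hn using hin
  let ι : V → E := fun u => ((Additive.toMul (n u) : ↥N) : E)
  have hιadd : ∀ a b, ι (a + b) = ι a * ι b := by
    intro a b
    have : n (a + b) = n a + n b := hinj (by rw [map_add, hn, hn, hn, vword_add])
    simp only [ι, this, toMul_add, Subgroup.coe_mul]
  have hιinj : Function.Injective ι := by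
    intro a b h
    have h1 : n a = n b := Additive.toMul.injective (Subtype.ext h)
    have h2 : vword codeBasis a = vword codeBasis b := by rw [← hn, ← hn, h1]
    obtain ⟨m, hm, he⟩ := exists_bv (a + b)
    have h3 : wordOfMask (combine codeBasis m) = 0 := by
      rw [wordOfMask_combine hlen, he, vword_add, h2]
      exact funext fun p => CharTwo.add_self_eq_zero _
    have h0 : a + b = 0 := by
      rcases hne m hm with h4 | ⟨h4, h5⟩
      · subst h4
        rw [← he]
        exact funext fun i => bv_zero i
      · rw [← Golay.wordOfMask_zero] at h3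
        have := Golay.wordOfMask_injOn h5 (by norm_num) h3
        rw [← Nat.beq_eq] at this
        rw [this] at h4
        simp at h4
    funext i
    exact CharTwo.add_eq_zero.mp (congrFun h0 i)
  have hker : ∀ k, k ∈ (proj N φ).ker ↔ ∃ u, ι u = k := by
    intro k
    rw [proj_ker]
    refine ⟨fun hk => ?_, fun ⟨u, hu⟩ => hu ▸ (Additive.toMul (n u)).2⟩
    obtain ⟨hc, hnone⟩ := (hrange _).mp ⟨Additive.ofMul ⟨k, hk⟩, rfl⟩
    obtain ⟨j, hj, he⟩ := Golay.mem_golayCode_iff.mp hc
    refine ⟨fun i => bv (j / 2) i, ?_⟩
    have h23 : (enc j).testBit 23 = false := by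
      have hm : ∀ m : ℕ, wordOfMask m none = 0 → m.testBit 23 = false := by
        intro m hm
        change (if m.testBit 23 = true then (1 : ZMod 2) else 0) = 0 at hm
        by_contra hb
        rw [if_pos (Bool.not_eq_false _ ▸ hb)] at hm
        exact one_ne_zero hm
      exact hm _ (by rw [← he]; exact hnone)
    have e : vword codeBasis (fun i => bv (j / 2) i) = ψ (Additive.ofMul ⟨k, hk⟩) := by
      rcases hall j hj with h | h
      · exact absurd (h23.symm.trans h) Bool.false_ne_true
      · exact ((wordOfMask_combine hlen (j / 2)).symm.trans (congrArg wordOfMask h.symm)).trans he.symm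
    rw [← hn] at e
    simp only [ι, hinj e, toMul_ofMul]
  have hcomm : ∀ g < codeSys.ng, ∀ (x : E) (u : V), proj N φ x = gperm (codes.getD g oneCode) →
      ι u * x = x * ι (codeSys.act g u) := by
    intro g hg x u hx
    have ha := action_spec code_perms hlen code_action (K := (⊥ : AddSubgroup Word))
      (fun m hm => by
        rw [Nat.beq_eq] at hm
        subst hm
        exact AddSubgroup.mem_bot.mpr Golay.wordOfMask_zero) hg u
    rw [AddSubgroup.mem_bot, sub_eq_zero, ← hx, ← hn, ← hn] at ha
    have h1 := hψ x⁻¹ (Additive.toMul (n u))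
    have e1 : ((φ (QuotientGroup.mk x⁻¹) : ↥Spor.M23) : Equiv.Perm GolayPt)⁻¹ = proj N φ x := by
      rw [← proj_apply N φ, map_inv, inv_inv]
    rw [e1] at h1
    have h2 := hinj (h1.trans ha)
    have h3 := congrArg (fun z => ((Additive.toMul z : ↥N) : E)) h2
    simp only [toMul_ofMul, inv_inv] at h3
    simp only [ι]
    rw [← h3, mul_assoc, mul_inv_cancel_left]
  obtain ⟨x, f, hR, hx, hf, hP, hT⟩ :=
    exists_normal codeCert (proj N φ) (proj_range N φ) hιinj hιadd hker hcomm
  have h0 : ∀ r < 28, slice f r = 0 := by
    intro r hr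
    funext i
    have h := List.all_eq_true.mp code_cover (11 * r + i) (List.mem_range.mpr (by omega))
    simp only [Bool.or_eq_true, List.contains_iff_mem] at h
    rcases h with h | h
    · exact hP _ h
    · obtain ⟨p, hp, hpe⟩ := List.mem_map.mp h
      have hs := List.all_eq_true.mp code_targets_false p hp
      have := hT p hp
      rw [hpe] at this
      simp only [Bool.not_eq_true'] at hs
      simpa [hs, slice] using this
  obtain ⟨H, hH⟩ := split_of_zero (proj N φ) (proj_range N φ) code_perms hR hιinj hker hx hf
    code_table h0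
  rw [proj_ker] at hH
  exact ⟨H, by rw [inf_comm]; exact hH.disjoint.eq_bot, by rw [sup_comm]; exact hH.sup_eq_top⟩

end Cfsg.Agent.Lib.M23H2
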