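import Cfsg.Agent.Lib.M23H2.Basic

/-!
Shared certificate data (generated): generators of subgroups of the point stabiliser, rules
between their words, and the table of a Sylow 2-subgroup.
-/

set_option autoImplicit false

namespace Cfsg.Agent.Lib.M23H2

/-- Codes of the generators. -/
def codes : List ℕ := [0xb8493aad80321328c1ae3d8b41a9e2,
  0xbd8cc9be24939b452d093d47028801,
  0xbc69583ed39250c581cd398a21902a,
  0xb92a094e11135cc329283ac762bc34,
  0xb8954942712250b0d5ae3b0762bcc0,
  0xbbeb484653b35c1329093aca219180,
  0xbcd54b104f839ac355093ac722c420,
  0xbd4900828b539368cda81c8ac399e2,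
  0xbd8cc9be24939b452d093d47028801,
  0xbceaab4092121a65d12e1b0b13bc20,
  0xbda8a9c5e2921a6655c91acf029020,
  0xbc940259e28b5cc5d509398b31c034,
  0xbc69583ed39250c581cd398a21902a,
  0xbc6b423ec2921260a9ae3b0b31c160,
  0xbcab4159e48a50b629cd384b01ccc0,
  0xbb4cb9a5d0446caa324f3d4a418801,
  0xbb6aa9a1c44c6cb651f23987028820,
  0xbce8a6c049246cb3564f3b0a81b820,
  0xbc940259e28b5cc5d509398b31c034,
  0xbc69583ed39250c581cd398a21902a,
  0xbc6b423ec2921260a9ae3b0b31c160,
  0xbcab4159e48a50b629cd384b01ccc0,
  0xbaa0b989957b5d1a5927418a11c880,
  0xbcd54b104f839ac355093ac722c420,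
  0xbaa6681035b39b2a3d074acac1c440,
  0xb918b78a119b9b5a0528380b61c946,
  0xb9850531740b9b28cd283d8a01d5e4,
  0xbb093a182a5b9b67c1283c8b518222,
  0xbcd6cb4052239b4a99283a8af1c401]

/-- Codes of the inverse generators. -/
def invCodes : List ℕ := [0xb9a64a316a0a131909ae3bcb5182d0,
  0xbd8cc9be24939b452d093d47028801,
  0xbc69583ed39250c581cd398a21902a,
  0xb92a094e11135cc329283ac762bc34,
  0xb91548ce1212126655cd3846f2d960,
  0xbbeb484653b35c1329093aca219180,
  0xbcd54b104f839ac355093ac722c420,
  0xbb2d1519740b92483da8188b538272,
  0xbd8cc9be24939b452d093d47028801,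
  0xbceaab4092121a65d12e1b0b13bc20,
  0xbd9559be448a5ab3510e2b0623c020,
  0xbc940259e28b5cc5d509398b31c034,
  0xbc69583ed39250c581cd398a21902a,
  0xbc6b423ec2921260a9ae3b0b31c160,
  0xbcab4159e48a50b629cd384b01ccc0,
  0xbb4cb9a5d0446caa324f3d4a418801,
  0xbb6aa9a1c44c6cb651f23987028820,
  0xbb555b25d240a66652043acaf1c420,
  0xbc940259e28b5cc5d509398b31c034,
  0xbc69583ed39250c581cd398a21902a,
  0xbc6b423ec2921260a9ae3b0b31c160,
  0xbcab4159e48a50b629cd384b01ccc0,
  0xbaa0b989957b5d1a5927418a11c880,
  0xbcd54b104f839ac355093ac722c420,
  0xbbe0bab053539a4358e9450b218620,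
  0xb918b78a119b9b5a0528380b61c946,
  0xb9850531740b9b28cd283d8a01d5e4,
  0xbb093a182a5b9b67c1283c8b518222,
  0xbcd6cb4052239b4a99283a8af1c401]

/-- The rules. -/
def rules : List (List ℕ × List ℕ) := [([0, 0], [2, 4, 6]),
  ([1, 0], [0, 5, 6]),
  ([2, 0], [0, 2, 3, 5, 6]),
  ([3, 0], [0, 1]),
  ([4, 0], [0, 1, 4, 6]),
  ([5, 0], [0, 2, 3, 4, 5]),
  ([6, 0], [0, 1, 2, 4, 5, 6]),
  ([1, 1], []),
  ([2, 1], [1, 4, 5, 6]),
  ([3, 1], [1, 5, 6]),
  ([4, 1], [1, 2, 3]),
  ([5, 1], [1, 3, 6]),
  ([6, 1], [1, 6]),
  ([2, 2], []),
  ([3, 2], [2, 6]),
  ([4, 2], [2, 3, 4, 5, 6]),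
  ([5, 2], [2, 5]),
  ([6, 2], [2, 3]),
  ([3, 3], []),
  ([4, 3], [3, 4, 5]),
  ([5, 3], [3, 5]),
  ([6, 3], [3, 6]),
  ([4, 4], [5]),
  ([5, 4], [4, 5]),
  ([6, 4], [4, 5, 6]),
  ([5, 5], []),
  ([6, 5], [5, 6]),
  ([6, 6], []),
  ([7, 7], [8, 9, 10, 12, 14]),
  ([8, 7], [7, 9, 10, 10, 14]),
  ([9, 7], [7, 8, 10, 10]),
  ([10, 7], [7, 10, 10, 11, 13]),
  ([11, 7], [7, 11, 13]),
  ([12, 7], [7, 11, 12, 14]),
  ([13, 7], [7, 11, 14]),
  ([14, 7], [7, 12, 13]),
  ([8, 8], []),
  ([9, 8], [8, 9, 10, 10]),
  ([10, 8], [8, 10, 10]),
  ([11, 8], [8, 13, 14]),
  ([12, 8], [8, 13]),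
  ([13, 8], [8, 12]),
  ([14, 8], [8, 11, 12]),
  ([9, 9], []),
  ([10, 9], [9, 10, 10]),
  ([11, 9], [9, 12]),
  ([12, 9], [9, 11]),
  ([13, 9], [9, 13]),
  ([14, 9], [9, 13, 14]),
  ([10, 10, 10], []),
  ([11, 10], [10, 11, 12]),
  ([12, 10], [10, 11]),
  ([13, 10], [10, 14]),
  ([14, 10], [10, 13, 14]),
  ([11, 11], []),
  ([12, 11], [11, 12]),
  ([13, 11], [11, 13]),
  ([14, 11], [11, 14]),
  ([12, 12], []),
  ([13, 12], [12, 13]),
  ([14, 12], [12, 14]),
  ([13, 13], []),
  ([14, 13], [13, 14]),
  ([14, 14], []),
  ([15, 15], []),
  ([16, 15], [15, 16]),
  ([17, 15], [15, 17, 17]),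
  ([18, 15], [15, 20]),
  ([19, 15], [15, 20, 21]),
  ([20, 15], [15, 18]),
  ([21, 15], [15, 18, 19]),
  ([16, 16], []),
  ([17, 16], [16, 17, 17]),
  ([18, 16], [16, 19]),
  ([19, 16], [16, 18]),
  ([20, 16], [16, 20, 21]),
  ([21, 16], [16, 21]),
  ([17, 17, 17], []),
  ([18, 17], [17, 18, 19]),
  ([19, 17], [17, 18]),
  ([20, 17], [17, 20, 21]),
  ([21, 17], [17, 20]),
  ([18, 18], []),
  ([19, 18], [18, 19]),
  ([20, 18], [18, 20]),
  ([21, 18], [18, 21]),
  ([19, 19], []),
  ([20, 19], [19, 20]),
  ([21, 19], [19, 21]),
  ([20, 20], []),
  ([21, 20], [20, 21]),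
  ([21, 21], []),
  ([22, 22], []),
  ([23, 22], [22, 23, 24, 24]),
  ([24, 22], [22, 24, 24]),
  ([25, 22], [22, 25]),
  ([26, 22], [22, 28]),
  ([27, 22], [22, 25, 27]),
  ([28, 22], [22, 26]),
  ([23, 23], []),
  ([24, 23], [23, 24, 24]),
  ([25, 23], [23, 26, 27, 28]),
  ([26, 23], [23, 25, 27]),
  ([27, 23], [23, 27, 28]),
  ([28, 23], [23, 28]),
  ([24, 24, 24], []),
  ([25, 24], [24, 25, 26, 27, 28]),
  ([26, 24], [24, 25, 27]),
  ([27, 24], [24, 28]),
  ([28, 24], [24, 27, 28]),
  ([25, 25], []),
  ([26, 25], [25, 26]),
  ([27, 25], [25, 27]),
  ([28, 25], [25, 28]),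
  ([26, 26], []),
  ([27, 26], [26, 27]),
  ([28, 26], [26, 28]),
  ([27, 27], []),
  ([28, 27], [27, 28]),
  ([28, 28], []),
  ([0], [7, 9]),
  ([1], [8]),
  ([2], [12]),
  ([3], [9, 10, 11]),
  ([4], [9, 10, 13]),
  ([5], [13, 14]),
  ([6], [9, 10]),
  ([1], [15, 16]),
  ([2], [19]),
  ([3], [16, 17, 18]),
  ([4], [16, 17, 20]),
  ([5], [20, 21]),
  ([6], [16, 17]),
  ([0, 4, 5, 6], [27]),
  ([1, 2, 3, 4], [23, 26, 27, 28]),
  ([1], [23, 28]),
  ([3], [22, 23, 24, 25, 26, 27, 28]),
  ([5], [22, 24, 24]),
  ([6], [23])]

/-- The elements of the Sylow 2-subgroup, as words. -/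
def sylWords : List (List ℕ) := [[],
  [0],
  [1],
  [0, 1],
  [2],
  [0, 2],
  [1, 2],
  [0, 1, 2],
  [3],
  [0, 3],
  [1, 3],
  [0, 1, 3],
  [2, 3],
  [0, 2, 3],
  [1, 2, 3],
  [0, 1, 2, 3],
  [4],
  [0, 4],
  [1, 4],
  [0, 1, 4],
  [2, 4],
  [0, 2, 4],
  [1, 2, 4],
  [0, 1, 2, 4],
  [3, 4],
  [0, 3, 4],
  [1, 3, 4],
  [0, 1, 3, 4],
  [2, 3, 4],
  [0, 2, 3, 4],
  [1, 2, 3, 4],
  [0, 1, 2, 3, 4],
  [5],
  [0, 5],
  [1, 5],
  [0, 1, 5],
  [2, 5],
  [0, 2, 5],
  [1, 2, 5],
  [0, 1, 2, 5],
  [3, 5],
  [0, 3, 5],
  [1, 3, 5],
  [0, 1, 3, 5],
  [2, 3, 5],
  [0, 2, 3, 5],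
  [1, 2, 3, 5],
  [0, 1, 2, 3, 5],
  [4, 5],
  [0, 4, 5],
  [1, 4, 5],
  [0, 1, 4, 5],
  [2, 4, 5],
  [0, 2, 4, 5],
  [1, 2, 4, 5],
  [0, 1, 2, 4, 5],
  [3, 4, 5],
  [0, 3, 4, 5],
  [1, 3, 4, 5],
  [0, 1, 3, 4, 5],
  [2, 3, 4, 5],
  [0, 2, 3, 4, 5],
  [1, 2, 3, 4, 5],
  [0, 1, 2, 3, 4, 5],
  [6],
  [0, 6],
  [1, 6],
  [0, 1, 6],
  [2, 6],
  [0, 2, 6],
  [1, 2, 6],
  [0, 1, 2, 6],
  [3, 6],
  [0, 3, 6],
  [1, 3, 6],
  [0, 1, 3, 6],
  [2, 3, 6],
  [0, 2, 3, 6],
  [1, 2, 3, 6],
  [0, 1, 2, 3, 6],
  [4, 6],
  [0, 4, 6],
  [1, 4, 6],
  [0, 1, 4, 6],
  [2, 4, 6],
  [0, 2, 4, 6],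
  [1, 2, 4, 6],
  [0, 1, 2, 4, 6],
  [3, 4, 6],
  [0, 3, 4, 6],
  [1, 3, 4, 6],
  [0, 1, 3, 4, 6],
  [2, 3, 4, 6],
  [0, 2, 3, 4, 6],
  [1, 2, 3, 4, 6],
  [0, 1, 2, 3, 4, 6],
  [5, 6],
  [0, 5, 6],
  [1, 5, 6],
  [0, 1, 5, 6],
  [2, 5, 6],
  [0, 2, 5, 6],
  [1, 2, 5, 6],
  [0, 1, 2, 5, 6],
  [3, 5, 6],
  [0, 3, 5, 6],
  [1, 3, 5, 6],
  [0, 1, 3, 5, 6],
  [2, 3, 5, 6],
  [0, 2, 3, 5, 6],
  [1, 2, 3, 5, 6],
  [0, 1, 2, 3, 5, 6],
  [4, 5, 6],
  [0, 4, 5, 6],
  [1, 4, 5, 6],
  [0, 1, 4, 5, 6],
  [2, 4, 5, 6],
  [0, 2, 4, 5, 6],
  [1, 2, 4, 5, 6],
  [0, 1, 2, 4, 5, 6],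
  [3, 4, 5, 6],
  [0, 3, 4, 5, 6],
  [1, 3, 4, 5, 6],
  [0, 1, 3, 4, 5, 6],
  [2, 3, 4, 5, 6],
  [0, 2, 3, 4, 5, 6],
  [1, 2, 3, 4, 5, 6],
  [0, 1, 2, 3, 4, 5, 6]]

/-- The derivations of the table. -/
def sylTable : List (List (List Step)) := [[[], [], [], [], [], [], []],
  [[(0, 0, false)], [], [], [], [], [], []],
  [[(0, 1, false)], [(0, 7, false)], [], [], [], [], []],
  [[(1, 1, false), (0, 0, false), (2, 26, false), (3, 27, false)], [(1, 7, false)], [], [], [], [], []],
  [[(0, 2, false)], [(0, 8, false)], [(0, 13, false)], [], [], [], []],
  [[(1, 2, false), (0, 0, false), (2, 17, false), (1, 15, false), (0, 13, false), (3, 21, false), (2, 20, false), (1, 19, false), (0, 18, false), (1, 25, false), (1, 21, false), (0, 19, false), (3, 26, false), (2, 25, false), (2, 27, false)], [(1, 8, false)], [(1, 13, false)], [], [], [], []],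
  [[(1, 2, false), (0, 1, false), (2, 17, false), (1, 16, false), (2, 20, false), (3, 20, false), (2, 18, false), (2, 25, false)], [(1, 8, false), (0, 7, false)], [(1, 13, false)], [], [], [], []],
  [[(2, 2, false), (1, 1, false), (0, 0, false), (2, 26, false), (3, 27, false), (2, 16, false), (1, 15, false), (0, 13, false), (3, 26, false), (2, 25, false), (2, 21, false), (1, 19, false), (0, 18, false), (2, 26, false), (1, 25, false), (1, 27, false)], [(2, 8, false), (1, 7, false)], [(2, 13, false)], [], [], [], []],
  [[(0, 3, false)], [(0, 9, false)], [(0, 14, false)], [(0, 18, false)], [], [], []],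
  [[(1, 3, false), (0, 0, false), (2, 12, false), (1, 10, false), (0, 8, false), (3, 17, false), (2, 16, false), (1, 15, false), (5, 26, false), (4, 25, false), (4, 21, false), (3, 19, false), (2, 18, false), (4, 21, false), (3, 20, false), (2, 19, false), (4, 25, false), (4, 27, false)], [(1, 9, false)], [(1, 14, false)], [(1, 18, false)], [], [], []],
  [[(1, 3, false), (0, 1, false), (2, 12, false), (1, 11, false), (3, 27, false)], [(1, 9, false), (0, 7, false)], [(1, 14, false)], [(1, 18, false)], [], [], []],
  [[(2, 3, false), (1, 1, false), (0, 0, false), (2, 26, false), (3, 27, false), (2, 11, false), (1, 10, false), (0, 8, false), (3, 17, false), (2, 16, false), (1, 15, false), (5, 26, false), (4, 25, false), (4, 21, false), (3, 19, false), (2, 18, false), (4, 21, false), (3, 20, false), (2, 19, false), (4, 25, false), (4, 21, false), (3, 19, false), (2, 18, false), (4, 27, false)], [(2, 9, false), (1, 7, false)], [(2, 14, false)], [(2, 18, false)], [], [], []],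
  [[(1, 3, false), (0, 2, false), (4, 12, false), (3, 11, false), (2, 9, false), (1, 8, false), (4, 26, false), (3, 25, false), (3, 27, false), (2, 19, false), (5, 27, false)], [(1, 9, false), (0, 8, false), (3, 26, false), (2, 25, false), (2, 27, false)], [(1, 14, false), (0, 13, false)], [(1, 18, false)], [], [], []],
  [[(2, 3, false), (1, 2, false), (0, 0, false), (2, 17, false), (1, 15, false), (0, 13, false), (3, 21, false), (2, 20, false), (1, 19, false), (0, 18, false), (1, 25, false), (1, 21, false), (0, 19, false), (3, 26, false), (2, 25, false), (2, 27, false), (1, 10, false), (0, 9, false), (2, 17, false), (1, 16, false), (2, 20, false), (3, 20, false), (2, 18, false)], [(2, 9, false), (1, 8, false), (4, 26, false), (3, 25, false), (3, 27, false)], [(2, 14, false), (1, 13, false)], [(2, 18, false)], [], [], []],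
  [[(2, 3, false), (1, 2, false), (0, 1, false), (2, 17, false), (1, 16, false), (2, 20, false), (3, 20, false), (2, 18, false), (2, 25, false), (2, 12, false), (1, 8, false), (4, 27, false)], [(2, 9, false), (1, 8, false), (0, 7, false), (2, 26, false), (1, 25, false), (1, 27, false)], [(2, 14, false), (1, 13, false)], [(2, 18, false)], [], [], []],
  [[(3, 3, false), (2, 2, false), (1, 1, false), (0, 0, false), (2, 26, false), (3, 27, false), (2, 16, false), (1, 15, false), (0, 13, false), (3, 26, false), (2, 25, false), (2, 21, false), (1, 19, false), (0, 18, false), (2, 26, false), (1, 25, false), (1, 27, false), (0, 10, false)], [(3, 9, false), (2, 8, false), (1, 7, false), (3, 26, false), (2, 25, false), (2, 27, false)], [(3, 14, false), (2, 13, false)], [(3, 18, false)], [], [], []],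
  [[(0, 4, false)], [(0, 10, false)], [(0, 15, false)], [(0, 19, false)], [(0, 22, false)], [], []],
  [[(1, 4, false), (0, 0, false), (2, 12, false), (1, 10, false), (0, 8, false), (3, 17, false), (2, 16, false), (1, 15, false), (5, 26, false), (4, 25, false), (4, 21, false), (3, 19, false), (2, 18, false), (4, 21, false), (3, 20, false), (2, 19, false), (4, 25, false), (4, 27, false), (3, 22, false)], [(1, 10, false)], [(1, 15, false)], [(1, 19, false)], [(1, 22, false)], [], []],
  [[(1, 4, false), (0, 1, false), (2, 12, false), (1, 11, false), (3, 27, false)], [(1, 10, false), (0, 7, false)], [(1, 15, false)], [(1, 19, false)], [(1, 22, false)], [], []],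
  [[(2, 4, false), (1, 1, false), (0, 0, false), (2, 26, false), (3, 27, false), (2, 11, false), (1, 10, false), (0, 8, false), (3, 17, false), (2, 16, false), (1, 15, false), (5, 26, false), (4, 25, false), (4, 21, false), (3, 19, false), (2, 18, false), (4, 21, false), (3, 20, false), (2, 19, false), (4, 25, false), (4, 21, false), (3, 19, false), (2, 18, false), (4, 27, false), (3, 23, false), (2, 22, false), (2, 25, false)], [(2, 10, false), (1, 7, false)], [(2, 15, false)], [(2, 19, false)], [(2, 22, false)], [], []],
  [[(1, 4, false), (0, 2, false), (4, 12, false), (3, 11, false), (2, 9, false), (1, 8, false), (4, 26, false), (3, 25, false), (3, 27, false), (2, 19, false), (5, 27, false), (4, 23, false), (3, 22, false), (3, 25, false)], [(1, 10, false), (0, 8, false), (3, 17, false), (2, 16, false), (1, 15, false), (5, 26, false), (4, 25, false), (4, 21, false), (3, 19, false), (2, 18, false), (4, 21, false), (3, 20, false), (2, 19, false), (4, 25, false)], [(1, 15, false), (0, 13, false)], [(1, 19, false)], [(1, 22, false)], [], []],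
  [[(2, 4, false), (1, 2, false), (0, 0, false), (2, 17, false), (1, 15, false), (0, 13, false), (3, 21, false), (2, 20, false), (1, 19, false), (0, 18, false), (1, 25, false), (1, 21, false), (0, 19, false), (3, 26, false), (2, 25, false), (2, 27, false), (1, 10, false), (0, 9, false), (2, 17, false), (1, 16, false), (2, 20, false), (3, 20, false), (2, 18, false), (2, 23, false)], [(2, 10, false), (1, 8, false), (4, 17, false), (3, 16, false), (2, 15, false), (6, 26, false), (5, 25, false), (5, 21, false), (4, 19, false), (3, 18, false), (5, 21, false), (4, 20, false), (3, 19, false), (5, 25, false)], [(2, 15, false), (1, 13, false)], [(2, 19, false)], [(2, 22, false)], [], []],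
  [[(2, 4, false), (1, 2, false), (0, 1, false), (2, 17, false), (1, 16, false), (2, 20, false), (3, 20, false), (2, 18, false), (2, 25, false), (2, 12, false), (1, 8, false), (4, 27, false), (3, 23, false), (2, 22, false), (2, 25, false)], [(2, 10, false), (1, 8, false), (0, 7, false), (2, 17, false), (1, 16, false), (0, 15, false), (4, 26, false), (3, 25, false), (3, 21, false), (2, 19, false), (1, 18, false), (3, 21, false), (2, 20, false), (1, 19, false), (3, 25, false)], [(2, 15, false), (1, 13, false)], [(2, 19, false)], [(2, 22, false)], [], []],
  [[(3, 4, false), (2, 2, false), (1, 1, false), (0, 0, false), (2, 26, false), (3, 27, false), (2, 16, false), (1, 15, false), (0, 13, false), (3, 26, false), (2, 25, false), (2, 21, false), (1, 19, false), (0, 18, false), (2, 26, false), (1, 25, false), (1, 27, false), (0, 10, false)], [(3, 10, false), (2, 8, false), (1, 7, false), (3, 17, false), (2, 16, false), (1, 15, false), (5, 26, false), (4, 25, false), (4, 21, false), (3, 19, false), (2, 18, false), (4, 21, false), (3, 20, false), (2, 19, false), (4, 25, false)], [(3, 15, false), (2, 13, false)], [(3, 19, false)],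 [(3, 22, false)], [], []],
  [[(1, 4, false), (0, 3, false), (1, 7, false)], [(1, 10, false), (0, 9, false), (2, 17, false), (1, 16, false), (2, 20, false), (3, 20, false), (2, 18, false)], [(1, 15, false), (0, 14, false), (1, 21, false), (2, 24, false), (4, 26, false), (3, 25, false), (3, 27, false)], [(1, 19, false), (0, 18, false)], [(1, 22, false)], [], []],
  [[(2, 4, false), (1, 3, false), (0, 0, false), (2, 12, false), (1, 10, false), (0, 8, false), (3, 17, false), (2, 16, false), (1, 15, false), (5, 26, false), (4, 25, false), (4, 21, false), (3, 19, false), (2, 18, false), (4, 21, false), (3, 20, false), (2, 19, false), (4, 25, false), (4, 27, false), (3, 10, false), (2, 9, false), (1, 8, false), (0, 7, false), (2, 26, false), (1, 25, false), (1, 27, false), (0, 15, false), (4, 21, false), (3, 20, false), (2, 19, false), (1, 18, false), (2, 25, false), (2, 24, false), (1, 22, false), (1, 25, false), (1, 27, false)], [(2, 10, false), (1, 9, false), (3, 17, false), (2, 16, false), (3, 20, false), (4, 20, false), (3, 18, false)], [(2, 15, false), (1, 14, false), (2, 21, false), (3, 24, false), (5, 26, false), (4,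 25, false), (4, 27, false)], [(2, 19, false), (1, 18, false)], [(2, 22, false)], [], []],
  [[(2, 4, false), (1, 3, false), (0, 1, false), (2, 12, false), (1, 11, false), (3, 27, false), (2, 9, false), (1, 7, false), (2, 24, false), (1, 23, false), (2, 25, false), (2, 27, false)], [(2, 10, false), (1, 9, false), (0, 7, false), (1, 17, false), (0, 16, false), (1, 20, false), (2, 20, false), (1, 18, false)], [(2, 15, false), (1, 14, false), (2, 21, false), (3, 24, false), (5, 26, false), (4, 25, false), (4, 27, false)], [(2, 19, false), (1, 18, false)], [(2, 22, false)], [], []],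
  [[(3, 4, false), (2, 3, false), (1, 1, false), (0, 0, false), (2, 26, false), (3, 27, false), (2, 11, false), (1, 10, false), (0, 8, false), (3, 17, false), (2, 16, false), (1, 15, false), (5, 26, false), (4, 25, false), (4, 21, false), (3, 19, false), (2, 18, false), (4, 21, false), (3, 20, false), (2, 19, false), (4, 25, false), (4, 21, false), (3, 19, false), (2, 18, false), (4, 27, false), (3, 11, false), (2, 10, false), (1, 8, false), (0, 7, false), (2, 17, false), (1, 16, false), (0, 15, false), (4, 26, false), (3, 25, false), (3, 21, false), (2, 19, false), (1, 18, false), (3, 21, false), (2, 20, false), (1, 19, false), (3, 25, false), (3, 21, false), (2, 19, false), (1, 18, false), (3, 27, false), (2, 23, false), (1, 22, false), (1, 25, false)], [(3, 10, false), (2, 9, false), (1, 7, false), (2, 17, false), (1, 16, false), (2, 20, false), (3, 20, false), (2, 18, false)], [(3, 15, false), (2, 14, false), (3, 21, false), (4, 24, false), (6, 26, false), (5, 25, false), (5, 27, false)], [(3, 19, false), (2, 18, false)], [(3, 22, false)], [], []],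
  [[(2, 4, false), (1, 3, false), (0, 2, false), (4, 12, false), (3, 11, false), (2, 9, false), (1, 8, false), (4, 26, false), (3, 25, false), (3, 27, false), (2, 19, false), (5, 27, false), (4, 11, false), (3, 10, false), (2, 9, false), (1, 7, false), (2, 17, false), (1, 16, false), (2, 20, false), (3, 20, false), (2, 18, false), (2, 20, false), (4, 24, false), (3, 23, false), (4, 25, false), (4, 27, false)], [(2, 10, false), (1, 9, false), (0, 8, false), (3, 26, false), (2, 25, false), (2, 27, false), (1, 15, false), (5, 21, false), (4, 20, false), (3, 19, false), (2, 18, false), (3, 25, false)], [(2, 15, false), (1, 14, false), (0, 13, false), (0, 21, false), (1, 24, false), (3, 26, false), (2, 25, false), (2, 27, false)], [(2, 19, false), (1, 18, false)], [(2, 22, false)], [], []],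
  [[(3, 4, false), (2, 3, false), (1, 2, false), (0, 0, false), (2, 17, false), (1, 15, false), (0, 13, false), (3, 21, false), (2, 20, false), (1, 19, false), (0, 18, false), (1, 25, false), (1, 21, false), (0, 19, false), (3, 26, false), (2, 25, false), (2, 27, false), (1, 10, false), (0, 9, false), (2, 17, false), (1, 16, false), (2, 20, false), (3, 20, false), (2, 18, false), (2, 11, false), (1, 8, false), (0, 7, false), (2, 21, false), (1, 20, false), (0, 19, false), (2, 25, false), (2, 27, false), (1, 22, false)], [(3, 10, false), (2, 9, false), (1, 8, false), (4, 26, false), (3, 25, false), (3, 27, false), (2, 15, false), (6, 21, false), (5, 20, false), (4, 19, false), (3, 18, false), (4, 25, false)], [(3, 15, false), (2, 14, false), (1, 13, false), (1, 21, false), (2, 24, false), (4, 26, false), (3, 25, false), (3, 27, false)], [(3, 19, false), (2, 18, false)], [(3, 22, false)], [], []],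
  [[(3, 4, false), (2, 3, false), (1, 2, false), (0, 1, false), (2, 17, false), (1, 16, false), (2, 20, false), (3, 20, false), (2, 18, false), (2, 25, false), (2, 12, false), (1, 8, false), (4, 27, false), (3, 11, false), (2, 10, false), (1, 7, false), (2, 18, false), (2, 24, false), (4, 27, false)], [(3, 10, false), (2, 9, false), (1, 8, false), (0, 7, false), (2, 26, false), (1, 25, false), (1, 27, false), (0, 15, false), (4, 21, false), (3, 20, false), (2, 19, false), (1, 18, false), (2, 25, false)], [(3, 15, false), (2, 14, false), (1, 13, false), (1, 21, false), (2, 24, false), (4, 26, false), (3, 25, false), (3, 27, false)], [(3, 19, false), (2, 18, false)], [(3, 22, false)], [], []],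
  [[(4, 4, false), (3, 3, false), (2, 2, false), (1, 1, false), (0, 0, false), (2, 26, false), (3, 27, false), (2, 16, false), (1, 15, false), (0, 13, false), (3, 26, false), (2, 25, false), (2, 21, false), (1, 19, false), (0, 18, false), (2, 26, false), (1, 25, false), (1, 27, false), (0, 10, false), (2, 9, false), (1, 8, false), (0, 7, false), (2, 26, false), (1, 25, false), (1, 27, false), (0, 22, false)], [(4, 10, false), (3, 9, false), (2, 8, false), (1, 7, false), (3, 26, false), (2, 25, false), (2, 27, false), (1, 15, false), (5, 21, false), (4, 20, false), (3, 19, false), (2, 18, false), (3, 25, false)], [(4, 15, false), (3, 14, false), (2, 13, false), (2, 21, false), (3, 24, false), (5, 26, false), (4, 25, false), (4, 27, false)], [(4, 19, false), (3, 18, false)], [(4, 22, false)], [], []],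
  [[(0, 5, false)], [(0, 11, false)], [(0, 16, false)], [(0, 20, false)], [(0, 23, false)], [(0, 25, false)], []],
  [[(1, 5, false), (0, 0, false), (2, 17, false), (1, 15, false), (0, 13, false), (3, 21, false), (2, 20, false), (1, 19, false), (0, 18, false), (1, 25, false), (1, 21, false), (0, 19, false), (3, 24, false), (2, 23, false), (1, 22, false), (1, 25, false), (2, 26, false), (1, 25, false)], [(1, 11, false)], [(1, 16, false)], [(1, 20, false)], [(1, 23, false)], [(1, 25, false)], []],
  [[(1, 5, false), (0, 1, false), (2, 17, false), (1, 16, false), (2, 20, false), (3, 20, false), (2, 18, false), (2, 23, false), (3, 25, false)], [(1, 11, false), (0, 7, false)], [(1, 16, false)], [(1, 20, false)], [(1, 23, false)], [(1, 25, false)], []],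
  [[(2, 5, false), (1, 1, false), (0, 0, false), (2, 26, false), (3, 27, false), (2, 16, false), (1, 15, false), (0, 13, false), (3, 26, false), (2, 25, false), (2, 21, false), (1, 19, false), (0, 18, false), (2, 24, false), (1, 23, false), (0, 22, false), (0, 25, false), (1, 26, false), (0, 25, false)], [(2, 11, false), (1, 7, false)], [(2, 16, false)], [(2, 20, false)], [(2, 23, false)], [(2, 25, false)], []],
  [[(1, 5, false), (0, 2, false), (4, 17, false), (3, 16, false), (2, 14, false), (1, 13, false), (1, 26, false), (2, 21, false), (1, 20, false), (3, 21, false), (2, 20, false), (1, 18, false), (2, 24, false), (1, 23, false), (2, 25, false), (2, 26, false)], [(1, 11, false), (0, 8, false), (3, 21, false), (2, 20, false), (1, 19, false), (3, 25, false), (3, 27, false)], [(1, 16, false), (0, 13, false)], [(1, 20, false)], [(1, 23, false)], [(1, 25, false)], []],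
  [[(2, 5, false), (1, 2, false), (0, 0, false), (2, 17, false), (1, 15, false), (0, 13, false), (3, 21, false), (2, 20, false), (1, 19, false), (0, 18, false), (1, 25, false), (1, 21, false), (0, 19, false), (3, 26, false), (2, 25, false), (2, 27, false), (1, 15, false), (0, 14, false), (1, 21, false), (2, 24, false), (4, 26, false), (3, 25, false), (3, 27, false), (2, 19, false), (1, 18, false), (2, 23, false), (1, 22, false), (1, 25, false)], [(2, 11, false), (1, 8, false), (4, 21, false), (3, 20, false), (2, 19, false), (4, 25, false), (4, 27, false)], [(2, 16, false), (1, 13, false)], [(2, 20, false)], [(2, 23, false)], [(2, 25, false)], []],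
  [[(2, 5, false), (1, 2, false), (0, 1, false), (2, 17, false), (1, 16, false), (2, 20, false), (3, 20, false), (2, 18, false), (2, 25, false), (2, 17, false), (1, 13, false), (1, 18, false)], [(2, 11, false), (1, 8, false), (0, 7, false), (2, 21, false), (1, 20, false), (0, 19, false), (2, 25, false), (2, 27, false)], [(2, 16, false), (1, 13, false)], [(2, 20, false)], [(2, 23, false)], [(2, 25, false)], []],
  [[(3, 5, false), (2, 2, false), (1, 1, false), (0, 0, false), (2, 26, false), (3, 27, false), (2, 16, false), (1, 15, false), (0, 13, false), (3, 26, false), (2, 25, false), (2, 21, false), (1, 19, false), (0, 18, false), (2, 26, false), (1, 25, false), (1, 27, false), (0, 15, false), (4, 21, false), (3, 20, false), (2, 19, false), (1, 18, false), (2, 25, false), (2, 24, false), (1, 22, false), (1, 25, false), (1, 26, false)], [(3, 11, false), (2, 8, false), (1, 7, false), (3, 21, false), (2, 20, false), (1, 19, false), (3, 25, false), (3, 27, false)], [(3, 16, false), (2, 13, false)], [(3, 20, false)], [(3, 23, false)], [(3, 25, false)], []],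
  [[(1, 5, false), (0, 3, false)], [(1, 11, false), (0, 9, false), (2, 21, false), (1, 20, false), (3, 27, false)], [(1, 16, false), (0, 14, false), (1, 26, false)], [(1, 20, false), (0, 18, false)], [(1, 23, false)], [(1, 25, false)], []],
  [[(2, 5, false), (1, 3, false), (0, 0, false), (2, 12, false), (1, 10, false), (0, 8, false), (3, 17, false), (2, 16, false), (1, 15, false), (5, 26, false), (4, 25, false), (4, 21, false), (3, 19, false), (2, 18, false), (4, 21, false), (3, 20, false), (2, 19, false), (4, 25, false), (4, 27, false), (3, 15, false), (2, 14, false), (1, 13, false), (1, 21, false), (2, 24, false), (4, 26, false), (3, 25, false), (3, 27, false), (2, 19, false), (1, 18, false), (2, 23, false), (1, 22, false), (1, 25, false)], [(2, 11, false), (1, 9, false), (3, 21, false), (2, 20, false), (4, 27, false)], [(2, 16, false), (1, 14, false), (2, 26, false)], [(2, 20, false), (1, 18, false)], [(2, 23, false)], [(2, 25, false)], []],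
  [[(2, 5, false), (1, 3, false), (0, 1, false), (2, 12, false), (1, 11, false), (3, 27, false), (2, 14, false), (3, 21, false), (4, 24, false), (6, 26, false), (5, 25, false)], [(2, 11, false), (1, 9, false), (0, 7, false), (1, 21, false), (0, 20, false), (2, 27, false)], [(2, 16, false), (1, 14, false), (2, 26, false)], [(2, 20, false), (1, 18, false)], [(2, 23, false)], [(2, 25, false)], []],
  [[(3, 5, false), (2, 3, false), (1, 1, false), (0, 0, false), (2, 26, false), (3, 27, false), (2, 11, false), (1, 10, false), (0, 8, false), (3, 17, false), (2, 16, false), (1, 15, false), (5, 26, false), (4, 25, false), (4, 21, false), (3, 19, false), (2, 18, false), (4, 21, false), (3, 20, false), (2, 19, false), (4, 25, false), (4, 21, false), (3, 19, false), (2, 18, false), (4, 27, false), (3, 16, false), (2, 15, false), (1, 13, false), (4, 26, false), (3, 25, false), (3, 21, false), (2, 19, false), (1, 18, false), (3, 24, false), (2, 23, false), (1, 22, false), (1, 25, false), (2, 26, false), (1, 25, false)], [(3, 11, false), (2, 9, false), (1, 7, false), (2, 21, false), (1, 20, false), (3, 27, false)], [(3, 16, false),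 (2, 14, false), (3, 26, false)], [(3, 20, false), (2, 18, false)], [(3, 23, false)], [(3, 25, false)], []],
  [[(2, 5, false), (1, 3, false), (0, 2, false), (4, 12, false), (3, 11, false), (2, 9, false), (1, 8, false), (4, 26, false), (3, 25, false), (3, 27, false), (2, 19, false), (5, 27, false), (4, 16, false), (3, 15, false), (2, 14, false), (3, 21, false), (4, 24, false), (6, 26, false), (5, 25, false), (5, 27, false), (5, 20, false), (4, 19, false), (3, 18, false), (4, 25, false), (3, 22, false), (3, 25, false)], [(2, 11, false), (1, 9, false), (0, 8, false), (3, 26, false), (2, 25, false), (2, 27, false), (1, 19, false)], [(2, 16, false), (1, 14, false), (0, 13, false), (0, 26, false)], [(2, 20, false), (1, 18, false)], [(2, 23, false)], [(2, 25, false)], []],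
  [[(3, 5, false), (2, 3, false), (1, 2, false), (0, 0, false), (2, 17, false), (1, 15, false), (0, 13, false), (3, 21, false), (2, 20, false), (1, 19, false), (0, 18, false), (1, 25, false), (1, 21, false), (0, 19, false), (3, 26, false), (2, 25, false), (2, 27, false), (1, 10, false), (0, 9, false), (2, 17, false), (1, 16, false), (2, 20, false), (3, 20, false), (2, 18, false), (2, 16, false), (1, 13, false), (1, 20, false), (2, 23, false), (3, 25, false)], [(3, 11, false), (2, 9, false), (1, 8, false), (4, 26, false), (3, 25, false), (3, 27, false), (2, 19, false)], [(3, 16, false), (2, 14, false), (1, 13, false), (1, 26, false)], [(3, 20, false), (2, 18, false)], [(3, 23, false)], [(3, 25, false)], []],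
  [[(3, 5, false), (2, 3, false), (1, 2, false), (0, 1, false), (2, 17, false), (1, 16, false), (2, 20, false), (3, 20, false), (2, 18, false), (2, 25, false), (2, 12, false), (1, 8, false), (4, 27, false), (3, 16, false), (2, 15, false), (6, 26, false), (5, 25, false), (5, 21, false), (4, 19, false), (3, 18, false), (5, 24, false), (4, 23, false), (3, 22, false), (3, 25, false), (4, 26, false), (3, 25, false)], [(3, 11, false), (2, 9, false), (1, 8, false), (0, 7, false), (2, 26, false), (1, 25, false), (1, 27, false), (0, 19, false)], [(3, 16, false), (2, 14, false), (1, 13, false), (1, 26, false)], [(3, 20, false), (2, 18, false)], [(3, 23, false)], [(3, 25, false)], []],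
  [[(4, 5, false), (3, 3, false), (2, 2, false), (1, 1, false), (0, 0, false), (2, 26, false), (3, 27, false), (2, 16, false), (1, 15, false), (0, 13, false), (3, 26, false), (2, 25, false), (2, 21, false), (1, 19, false), (0, 18, false), (2, 26, false), (1, 25, false), (1, 27, false), (0, 10, false), (2, 14, false), (1, 13, false), (1, 21, false), (2, 24, false), (4, 26, false), (3, 25, false)], [(4, 11, false), (3, 9, false), (2, 8, false), (1, 7, false), (3, 26, false), (2, 25, false), (2, 27, false), (1, 19, false)], [(4, 16, false), (3, 14, false), (2, 13, false), (2, 26, false)], [(4, 20, false), (3, 18, false)], [(4, 23, false)], [(4, 25, false)], []],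
  [[(1, 5, false), (0, 4, false), (3, 17, false), (2, 15, false), (6, 21, false), (5, 20, false), (4, 19, false), (3, 18, false), (4, 25, false), (4, 21, false), (3, 19, false), (6, 24, false), (5, 23, false), (4, 22, false), (4, 25, false), (5, 26, false), (4, 25, false)], [(1, 11, false), (0, 10, false), (2, 18, false)], [(1, 16, false), (0, 15, false), (4, 26, false), (3, 25, false)], [(1, 20, false), (0, 19, false), (2, 25, false)], [(1, 23, false), (0, 22, false), (0, 25, false)], [(1, 25, false)], []],
  [[(2, 5, false), (1, 4, false), (0, 0, false), (2, 12, false), (1, 10, false), (0, 8, false), (3, 17, false), (2, 16, false), (1, 15, false), (5, 26, false), (4, 25, false), (4, 21, false), (3, 19, false), (2, 18, false), (4, 21, false), (3, 20, false), (2, 19, false), (4, 25, false), (4, 27, false), (3, 22, false), (4, 17, false), (3, 16, false), (2, 14, false), (1, 13, false), (1, 26, false), (2, 21, false), (1, 20, false), (3, 21, false), (2, 20, false), (1, 18, false), (2, 24, false), (1, 23, false), (2, 25, false), (2, 26, false)], [(2, 11, false), (1, 10, false), (3, 18, false)], [(2, 16, false), (1, 15, false),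 (5, 26, false), (4, 25, false)], [(2, 20, false), (1, 19, false), (3, 25, false)], [(2, 23, false), (1, 22, false), (1, 25, false)], [(2, 25, false)], []],
  [[(2, 5, false), (1, 4, false), (0, 1, false), (2, 12, false), (1, 11, false), (3, 27, false), (4, 17, false), (3, 15, false), (2, 14, false), (3, 21, false), (4, 24, false), (6, 26, false), (5, 25, false), (5, 27, false), (4, 19, false), (3, 18, false), (4, 20, false), (3, 19, false), (5, 25, false), (4, 22, false), (4, 25, false)], [(2, 11, false), (1, 10, false), (0, 7, false), (1, 18, false)], [(2, 16, false), (1, 15, false), (5, 26, false), (4, 25, false)], [(2, 20, false), (1, 19, false), (3, 25, false)], [(2, 23, false), (1, 22, false), (1, 25, false)], [(2, 25, false)], []],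
  [[(3, 5, false), (2, 4, false), (1, 1, false), (0, 0, false), (2, 26, false), (3, 27, false), (2, 11, false), (1, 10, false), (0, 8, false), (3, 17, false), (2, 16, false), (1, 15, false), (5, 26, false), (4, 25, false), (4, 21, false), (3, 19, false), (2, 18, false), (4, 21, false), (3, 20, false), (2, 19, false), (4, 25, false), (4, 21, false), (3, 19, false), (2, 18, false), (4, 27, false), (3, 23, false), (2, 22, false), (2, 25, false), (2, 17, false), (1, 13, false), (1, 18, false)], [(3, 11, false), (2, 10, false), (1, 7, false), (2, 18, false)], [(3, 16, false), (2, 15, false), (6, 26, false), (5, 25, false)], [(3, 20, false), (2, 19, false), (4, 25, false)], [(3, 23, false), (2, 22, false), (2, 25, false)], [(3, 25, false)], []],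
  [[(2, 5, false), (1, 4, false), (0, 2, false), (4, 12, false), (3, 11, false), (2, 9, false), (1, 8, false), (4, 26, false), (3, 25, false), (3, 27, false), (2, 19, false), (5, 27, false), (4, 23, false), (3, 22, false), (3, 25, false), (3, 17, false), (2, 14, false), (3, 21, false), (4, 21, false), (3, 18, false), (3, 24, false), (5, 26, false), (4, 25, false)], [(2, 11, false), (1, 10, false), (0, 8, false), (3, 17, false), (2, 16, false), (1, 15, false), (5, 26, false), (4, 25, false), (4, 21, false), (3, 19, false), (2, 18, false), (4, 21, false), (3, 20, false), (2, 19, false), (4, 25, false), (4, 21, false), (3, 19, false), (2, 18, false), (4, 27, false)], [(2, 16, false), (1, 15, false), (0, 13, false), (3, 26, false), (2, 25, false)], [(2, 20, false), (1, 19, false), (3, 25, false)], [(2, 23, false), (1, 22, false), (1, 25, false)], [(2, 25, false)], []],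
  [[(3, 5, false), (2, 4, false), (1, 2, false), (0, 0, false), (2, 17, false), (1, 15, false), (0, 13, false), (3, 21, false), (2, 20, false), (1, 19, false), (0, 18, false), (1, 25, false), (1, 21, false), (0, 19, false), (3, 26, false), (2, 25, false), (2, 27, false), (1, 10, false), (0, 9, false), (2, 17, false), (1, 16, false), (2, 20, false), (3, 20, false), (2, 18, false), (2, 23, false), (4, 17, false), (3, 16, false), (2, 15, false), (1, 13, false), (4, 26, false), (3, 25, false), (3, 21, false), (2, 19, false), (1, 18, false), (3, 21, false), (2, 20, false), (1, 19, false), (3, 25, false), (3, 24, false), (2, 22, false), (2, 25, false), (2, 26, false)], [(3, 11, false), (2, 10, false), (1, 8, false), (4, 17, false), (3, 16, false), (2, 15, false), (6, 26, false), (5, 25, false), (5, 21, false), (4, 19, false), (3, 18, false), (5, 21, false), (4, 20, false), (3, 19, false), (5, 25, false), (5, 21, false), (4, 19, false), (3, 18, false), (5, 27, false)], [(3, 16, false), (2, 15, false), (1, 13, false), (4, 26, false), (3, 25, false)], [(3, 20, false), (2, 19, false), (4, 25, false)], [(3, 23, false), (2, 22, false),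 (2, 25, false)], [(3, 25, false)], []],
  [[(3, 5, false), (2, 4, false), (1, 2, false), (0, 1, false), (2, 17, false), (1, 16, false), (2, 20, false), (3, 20, false), (2, 18, false), (2, 25, false), (2, 12, false), (1, 8, false), (4, 27, false), (3, 23, false), (2, 22, false), (2, 25, false), (2, 17, false), (3, 18, false)], [(3, 11, false), (2, 10, false), (1, 8, false), (0, 7, false), (2, 17, false), (1, 16, false), (0, 15, false), (4, 26, false), (3, 25, false), (3, 21, false), (2, 19, false), (1, 18, false), (3, 21, false), (2, 20, false), (1, 19, false), (3, 25, false), (3, 21, false), (2, 19, false), (1, 18, false), (3, 27, false)], [(3, 16, false), (2, 15, false), (1, 13, false), (4, 26, false), (3, 25, false)], [(3, 20, false), (2, 19, false), (4, 25, false)], [(3, 23, false), (2, 22, false), (2, 25, false)], [(3, 25, false)], []],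
  [[(4, 5, false), (3, 4, false), (2, 2, false), (1, 1, false), (0, 0, false), (2, 26, false), (3, 27, false), (2, 16, false), (1, 15, false), (0, 13, false), (3, 26, false), (2, 25, false), (2, 21, false), (1, 19, false), (0, 18, false), (2, 26, false), (1, 25, false), (1, 27, false), (0, 10, false), (4, 17, false), (3, 15, false), (2, 14, false), (1, 13, false), (1, 21, false), (2, 24, false), (4, 26, false), (3, 25, false), (3, 27, false), (2, 19, false), (1, 18, false), (2, 20, false), (1, 19, false), (3, 25, false), (2, 22, false), (2, 25, false)], [(4, 11, false), (3, 10, false), (2, 8, false), (1, 7, false), (3, 17, false), (2, 16, false), (1, 15, false), (5, 26, false), (4, 25, false), (4, 21, false), (3, 19, false), (2, 18, false), (4, 21, false), (3, 20, false), (2, 19, false), (4, 25, false), (4, 21, false), (3, 19, false), (2, 18, false), (4, 27, false)], [(4, 16, false), (3, 15, false), (2, 13, false), (5, 26, false), (4, 25, false)], [(4, 20, false), (3, 19, false), (5, 25, false)], [(4, 23, false), (3, 22, false), (3, 25, false)], [(4, 25, false)], []],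
  [[(2, 5, false), (1, 4, false), (0, 3, false), (1, 7, false), (2, 17, false), (1, 15, false), (5, 21, false), (4, 20, false), (3, 19, false), (2, 18, false), (3, 25, false), (3, 21, false), (2, 19, false), (5, 24, false), (4, 23, false), (3, 22, false), (3, 25, false), (4, 26, false), (3, 25, false)], [(2, 11, false), (1, 10, false), (0, 9, false), (2, 17, false), (1, 16, false), (2, 20, false), (3, 20, false), (2, 18, false), (2, 20, false)], [(2, 16, false), (1, 15, false), (0, 14, false), (1, 21, false), (2, 24, false), (4, 26, false), (3, 25, false), (3, 27, false)], [(2, 20, false), (1, 19, false), (0, 18, false), (1, 25, false)], [(2, 23, false), (1, 22, false), (1, 25, false)], [(2, 25, false)], []],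
  [[(3, 5, false), (2, 4, false), (1, 3, false), (0, 0, false), (2, 12, false), (1, 10, false), (0, 8, false), (3, 17, false), (2, 16, false), (1, 15, false), (5, 26, false), (4, 25, false), (4, 21, false), (3, 19, false), (2, 18, false), (4, 21, false), (3, 20, false), (2, 19, false), (4, 25, false), (4, 27, false), (3, 10, false), (2, 9, false), (1, 8, false), (0, 7, false), (2, 26, false), (1, 25, false), (1, 27, false), (0, 15, false), (4, 21, false), (3, 20, false), (2, 19, false), (1, 18, false), (2, 25, false), (2, 24, false), (1, 22, false), (1, 25, false), (1, 27, false), (0, 13, false)], [(3, 11, false), (2, 10, false), (1, 9, false), (3, 17, false), (2, 16, false), (3, 20, false), (4, 20, false), (3, 18, false), (3, 20, false)], [(3, 16, false), (2, 15, false), (1, 14, false), (2, 21, false), (3, 24, false), (5, 26, false), (4, 25, false), (4, 27, false)], [(3, 20, false), (2, 19, false), (1, 18, false), (2, 25, false)], [(3, 23, false), (2, 22, false), (2, 25, false)], [(3, 25, false)], []],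
  [[(3, 5, false), (2, 4, false), (1, 3, false), (0, 1, false), (2, 12, false), (1, 11, false), (3, 27, false), (2, 9, false), (1, 7, false), (2, 24, false), (1, 23, false), (2, 25, false), (2, 27, false), (1, 15, false), (5, 21, false), (4, 20, false), (3, 19, false), (2, 18, false), (3, 25, false), (3, 24, false), (2, 22, false), (2, 25, false), (2, 26, false)], [(3, 11, false), (2, 10, false), (1, 9, false), (0, 7, false), (1, 17, false), (0, 16, false), (1, 20, false), (2, 20, false), (1, 18, false), (1, 20, false)], [(3, 16, false), (2, 15, false), (1, 14, false), (2, 21, false), (3, 24, false), (5, 26, false), (4, 25, false), (4, 27, false)], [(3, 20, false), (2, 19, false), (1, 18, false), (2, 25, false)], [(3, 23, false), (2, 22, false), (2, 25, false)], [(3, 25, false)], []],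
  [[(4, 5, false), (3, 4, false), (2, 3, false), (1, 1, false), (0, 0, false), (2, 26, false), (3, 27, false), (2, 11, false), (1, 10, false), (0, 8, false), (3, 17, false), (2, 16, false), (1, 15, false), (5, 26, false), (4, 25, false), (4, 21, false), (3, 19, false), (2, 18, false), (4, 21, false), (3, 20, false), (2, 19, false), (4, 25, false), (4, 21, false), (3, 19, false), (2, 18, false), (4, 27, false), (3, 11, false), (2, 10, false), (1, 8, false), (0, 7, false), (2, 17, false), (1, 16, false), (0, 15, false), (4, 26, false), (3, 25, false), (3, 21, false), (2, 19, false), (1, 18, false), (3, 21, false), (2, 20, false), (1, 19, false), (3, 25, false), (3, 21, false), (2, 19, false), (1, 18, false), (3, 27, false), (2, 23, false), (1, 22, false), (1, 25, false), (1, 17, false), (0, 13, false), (0, 18, false)], [(4, 11, false), (3, 10, false), (2, 9, false), (1, 7, false), (2, 17, false), (1, 16, false), (2, 20, false), (3, 20, false), (2, 18, false), (2, 20, false)], [(4, 16, false), (3, 15, false), (2, 14, false), (3, 21, false), (4, 24, false), (6, 26, false), (5, 25, false), (5, 27, false)], [(4, 20, false),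 (3, 19, false), (2, 18, false), (3, 25, false)], [(4, 23, false), (3, 22, false), (3, 25, false)], [(4, 25, false)], []],
  [[(3, 5, false), (2, 4, false), (1, 3, false), (0, 2, false), (4, 12, false), (3, 11, false), (2, 9, false), (1, 8, false), (4, 26, false), (3, 25, false), (3, 27, false), (2, 19, false), (5, 27, false), (4, 11, false), (3, 10, false), (2, 9, false), (1, 7, false), (2, 17, false), (1, 16, false), (2, 20, false), (3, 20, false), (2, 18, false), (2, 20, false), (4, 24, false), (3, 23, false), (4, 25, false), (4, 27, false), (3, 15, false), (2, 14, false), (1, 13, false), (1, 21, false), (2, 24, false), (4, 26, false), (3, 25, false), (3, 27, false), (2, 19, false), (1, 18, false), (2, 23, false), (1, 22, false), (1, 25, false)], [(3, 11, false), (2, 10, false), (1, 9, false), (0, 8, false), (3, 26, false), (2, 25, false), (2, 27, false), (1, 15, false), (5, 21, false), (4, 20, false), (3, 19, false), (2, 18, false), (3, 25, false), (3, 21, false), (2, 19, false), (5, 27, false)], [(3, 16, false), (2, 15, false), (1, 14, false), (0, 13, false), (0, 21, false), (1, 24, false), (3, 26, false), (2, 25,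 false), (2, 27, false)], [(3, 20, false), (2, 19, false), (1, 18, false), (2, 25, false)], [(3, 23, false), (2, 22, false), (2, 25, false)], [(3, 25, false)], []],
  [[(4, 5, false), (3, 4, false), (2, 3, false), (1, 2, false), (0, 0, false), (2, 17, false), (1, 15, false), (0, 13, false), (3, 21, false), (2, 20, false), (1, 19, false), (0, 18, false), (1, 25, false), (1, 21, false), (0, 19, false), (3, 26, false), (2, 25, false), (2, 27, false), (1, 10, false), (0, 9, false), (2, 17, false), (1, 16, false), (2, 20, false), (3, 20, false), (2, 18, false), (2, 11, false), (1, 8, false), (0, 7, false), (2, 21, false), (1, 20, false), (0, 19, false), (2, 25, false), (2, 27, false), (1, 22, false), (2, 17, false), (1, 16, false), (0, 14, false), (1, 26, false), (2, 21, false), (1, 20, false), (3, 21, false), (2, 20, false), (1, 18, false), (2, 24, false), (1, 23, false), (2, 25, false), (2, 26, false)], [(4, 11, false), (3, 10, false), (2, 9, false), (1, 8, false), (4, 26, false), (3, 25, false), (3, 27, false), (2, 15, false), (6, 21, false), (5, 20, false), (4, 19, false), (3, 18, false), (4, 25, false), (4, 21, false),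 (3, 19, false), (6, 27, false)], [(4, 16, false), (3, 15, false), (2, 14, false), (1, 13, false), (1, 21, false), (2, 24, false), (4, 26, false), (3, 25, false), (3, 27, false)], [(4, 20, false), (3, 19, false), (2, 18, false), (3, 25, false)], [(4, 23, false), (3, 22, false), (3, 25, false)], [(4, 25, false)], []],
  [[(4, 5, false), (3, 4, false), (2, 3, false), (1, 2, false), (0, 1, false), (2, 17, false), (1, 16, false), (2, 20, false), (3, 20, false), (2, 18, false), (2, 25, false), (2, 12, false), (1, 8, false), (4, 27, false), (3, 11, false), (2, 10, false), (1, 7, false), (2, 18, false), (2, 24, false), (4, 27, false), (3, 16, false), (2, 15, false), (1, 13, false), (4, 26, false), (3, 25, false), (3, 21, false), (2, 19, false), (1, 18, false), (3, 24, false), (2, 23, false), (1, 22, false), (1, 25, false), (2, 26, false), (1, 25, false)], [(4, 11, false), (3, 10, false), (2, 9, false), (1, 8, false), (0, 7, false), (2, 26, false), (1, 25, false), (1, 27, false), (0, 15, false), (4, 21, false), (3, 20, false), (2, 19, false), (1, 18, false), (2, 25, false), (2, 21, false), (1, 19, false), (4, 27, false)], [(4,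 16, false), (3, 15, false), (2, 14, false), (1, 13, false), (1, 21, false), (2, 24, false), (4, 26, false), (3, 25, false), (3, 27, false)], [(4, 20, false), (3, 19, false), (2, 18, false), (3, 25, false)], [(4, 23, false), (3, 22, false), (3, 25, false)], [(4, 25, false)], []],
  [[(5, 5, false), (4, 4, false), (3, 3, false), (2, 2, false), (1, 1, false), (0, 0, false), (2, 26, false), (3, 27, false), (2, 16, false), (1, 15, false), (0, 13, false), (3, 26, false), (2, 25, false), (2, 21, false), (1, 19, false), (0, 18, false), (2, 26, false), (1, 25, false), (1, 27, false), (0, 10, false), (2, 9, false), (1, 8, false), (0, 7, false), (2, 26, false), (1, 25, false), (1, 27, false), (0, 22, false), (1, 17, false), (0, 16, false), (1, 20, false), (2, 20, false), (1, 18, false), (1, 23, false), (2, 25, false)], [(5, 11, false), (4, 10, false), (3, 9, false), (2, 8, false), (1, 7, false), (3, 26, false), (2, 25, false), (2, 27, false), (1, 15, false), (5, 21, false), (4, 20, false), (3, 19, false), (2, 18, false), (3, 25, false), (3, 21, false), (2, 19, false), (5, 27, false)], [(5, 16, false), (4, 15, false), (3, 14, false),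 (2, 13, false), (2, 21, false), (3, 24, false), (5, 26, false), (4, 25, false), (4, 27, false)], [(5, 20, false), (4, 19, false), (3, 18, false), (4, 25, false)], [(5, 23, false), (4, 22, false), (4, 25, false)], [(5, 25, false)], []],
  [[(0, 6, false)], [(0, 12, false)], [(0, 17, false)], [(0, 21, false)], [(0, 24, false)], [(0, 26, false)], [(0, 27, false)]],
  [[(1, 6, false), (0, 0, false), (2, 12, false), (1, 10, false), (0, 8, false), (3, 17, false), (2, 16, false), (1, 15, false), (5, 26, false), (4, 25, false), (4, 21, false), (3, 19, false), (2, 18, false), (4, 21, false), (3, 20, false), (2, 19, false), (4, 25, false), (4, 27, false), (3, 15, false), (2, 14, false), (1, 13, false), (1, 21, false), (2, 24, false), (4, 26, false), (3, 25, false), (3, 27, false), (2, 22, false), (2, 25, false)], [(1, 12, false)], [(1, 17, false)], [(1, 21, false)], [(1, 24, false)], [(1, 26, false)], [(1, 27, false)]],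
  [[(1, 6, false), (0, 1, false), (2, 12, false), (1, 11, false), (3, 27, false), (2, 14, false), (3, 24, false), (5, 26, false), (4, 25, false), (4, 27, false)], [(1, 12, false), (0, 7, false)], [(1, 17, false)], [(1, 21, false)], [(1, 24, false)], [(1, 26, false)], [(1, 27, false)]],
  [[(2, 6, false), (1, 1, false), (0, 0, false), (2, 26, false), (3, 27, false), (2, 11, false), (1, 10, false), (0, 8, false), (3, 17, false), (2, 16, false), (1, 15, false), (5, 26, false), (4, 25, false), (4, 21, false), (3, 19, false), (2, 18, false), (4, 21, false), (3, 20, false), (2, 19, false), (4, 25, false), (4, 21, false), (3, 19, false), (2, 18, false), (4, 27, false), (3, 16, false), (2, 15, false), (1, 13, false), (4, 26, false), (3, 25, false), (3, 24, false), (2, 22, false), (2, 25, false), (2, 26, false), (3, 27, false)], [(2, 12, false), (1, 7, false)], [(2, 17, false)], [(2, 21, false)], [(2, 24, false)], [(2, 26, false)], [(2, 27, false)]],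
  [[(1, 6, false), (0, 2, false), (4, 12, false), (3, 11, false), (2, 9, false), (1, 8, false), (4, 26, false), (3, 25, false), (3, 27, false), (2, 19, false), (5, 27, false), (4, 16, false), (3, 15, false), (2, 14, false), (3, 21, false), (4, 24, false), (6, 26, false), (5, 25, false), (5, 27, false), (5, 23, false), (4, 22, false), (4, 25, false)], [(1, 12, false), (0, 8, false), (3, 27, false)], [(1, 17, false), (0, 13, false)], [(1, 21, false)], [(1, 24, false)], [(1, 26, false)], [(1, 27, false)]],
  [[(2, 6, false), (1, 2, false), (0, 0, false), (2, 17, false), (1, 15, false), (0, 13, false), (3, 21, false), (2, 20, false), (1, 19, false), (0, 18, false), (1, 25, false), (1, 21, false), (0, 19, false), (3, 26, false), (2, 25, false), (2, 27, false), (1, 10, false), (0, 9, false), (2, 17, false), (1, 16, false), (2, 20, false), (3, 20, false), (2, 18, false), (2, 16, false), (1, 13, false), (1, 23, false), (2, 25, false)], [(2, 12, false), (1, 8, false), (4, 27, false)], [(2, 17, false), (1, 13, false)], [(2, 21, false)], [(2, 24, false)], [(2, 26, false)], [(2, 27, false)]],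
  [[(2, 6, false), (1, 2, false), (0, 1, false), (2, 17, false), (1, 16, false), (2, 20, false), (3, 20, false), (2, 18, false), (2, 25, false), (2, 12, false), (1, 8, false), (4, 27, false), (3, 16, false), (2, 15, false), (6, 26, false), (5, 25, false), (5, 24, false), (4, 22, false), (4, 25, false), (4, 26, false), (5, 27, false)], [(2, 12, false), (1, 8, false), (0, 7, false), (2, 27, false)], [(2, 17, false), (1, 13, false)], [(2, 21, false)], [(2, 24, false)], [(2, 26, false)], [(2, 27, false)]],
  [[(3, 6, false), (2, 2, false), (1, 1, false), (0, 0, false), (2, 26, false), (3, 27, false), (2, 16, false), (1, 15, false), (0, 13, false), (3, 26, false), (2, 25, false), (2, 21, false), (1, 19, false), (0, 18, false), (2, 26, false), (1, 25, false), (1, 27, false), (0, 10, false), (2, 14, false), (1, 13, false), (1, 24, false), (3, 26, false), (2, 25, false), (2, 27, false)], [(3, 12, false), (2, 8, false), (1, 7, false), (3, 27, false)], [(3, 17, false), (2, 13, false)], [(3, 21, false)], [(3, 24, false)], [(3, 26, false)], [(3, 27, false)]],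
  [[(1, 6, false), (0, 3, false), (1, 7, false)], [(1, 12, false), (0, 9, false), (2, 27, false)], [(1, 17, false), (0, 14, false), (1, 21, false)], [(1, 21, false), (0, 18, false)], [(1, 24, false)], [(1, 26, false)], [(1, 27, false)]],
  [[(2, 6, false), (1, 3, false), (0, 0, false), (2, 12, false), (1, 10, false), (0, 8, false), (3, 17, false), (2, 16, false), (1, 15, false), (5, 26, false), (4, 25, false), (4, 21, false), (3, 19, false), (2, 18, false), (4, 21, false), (3, 20, false), (2, 19, false), (4, 25, false), (4, 27, false), (3, 10, false), (2, 9, false), (1, 8, false), (0, 7, false), (2, 26, false), (1, 25, false), (1, 27, false), (0, 15, false), (4, 21, false), (3, 20, false), (2, 19, false), (1, 18, false), (2, 25, false), (2, 17, false), (1, 15, false), (0, 13, false), (3, 21, false), (2, 20, false), (1, 19, false), (0, 18, false), (1, 25, false), (1, 24, false), (0, 22, false), (0, 25, false), (0, 26, false), (1, 27, false)], [(2, 12, false), (1, 9, false), (3, 27, false)], [(2, 17, false), (1, 14, false), (2, 21, false)], [(2, 21, false), (1, 18, false)], [(2, 24, false)], [(2, 26, false)], [(2, 27, false)]],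
  [[(2, 6, false), (1, 3, false), (0, 1, false), (2, 12, false), (1, 11, false), (3, 27, false), (2, 9, false), (1, 7, false), (2, 17, false), (1, 16, false), (2, 20, false), (3, 23, false), (4, 25, false)], [(2, 12, false), (1, 9, false), (0, 7, false), (1, 27, false)], [(2, 17, false), (1, 14, false), (2, 21, false)], [(2, 21, false), (1, 18, false)], [(2, 24, false)], [(2, 26, false)], [(2, 27, false)]],
  [[(3, 6, false), (2, 3, false), (1, 1, false), (0, 0, false), (2, 26, false), (3, 27, false), (2, 11, false), (1, 10, false), (0, 8, false), (3, 17, false), (2, 16, false), (1, 15, false), (5, 26, false), (4, 25, false), (4, 21, false), (3, 19, false), (2, 18, false), (4, 21, false), (3, 20, false), (2, 19, false), (4, 25, false), (4, 21, false), (3, 19, false), (2, 18, false), (4, 27, false), (3, 11, false), (2, 10, false), (1, 8, false), (0, 7, false), (2, 17, false), (1, 16, false), (0, 15, false), (4, 26, false), (3, 25, false), (3, 21, false), (2, 19, false), (1, 18, false), (3, 21, false), (2, 20, false), (1, 19, false), (3, 25, false), (3, 21, false), (2, 19, false), (1, 18, false), (3, 27, false), (2, 16,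 false), (1, 15, false), (0, 13, false), (3, 26, false), (2, 25, false), (2, 24, false), (1, 22, false), (1, 25, false), (1, 26, false), (2, 27, false)], [(3, 12, false), (2, 9, false), (1, 7, false), (2, 27, false)], [(3, 17, false), (2, 14, false), (3, 21, false)], [(3, 21, false), (2, 18, false)], [(3, 24, false)], [(3, 26, false)], [(3, 27, false)]],
  [[(2, 6, false), (1, 3, false), (0, 2, false), (4, 12, false), (3, 11, false), (2, 9, false), (1, 8, false), (4, 26, false), (3, 25, false), (3, 27, false), (2, 19, false), (5, 27, false), (4, 11, false), (3, 10, false), (2, 9, false), (1, 7, false), (2, 17, false), (1, 16, false), (2, 20, false), (3, 20, false), (2, 18, false), (2, 20, false), (4, 17, false), (3, 16, false), (2, 14, false), (1, 13, false), (1, 26, false), (2, 21, false), (1, 20, false), (3, 24, false), (2, 23, false), (3, 25, false), (3, 26, false), (4, 27, false)], [(2, 12, false), (1, 9, false), (0, 8, false), (3, 26, false), (2, 25, false), (2, 27, false)], [(2, 17, false), (1, 14, false), (0, 13, false), (0, 21, false)], [(2, 21, false), (1, 18, false)], [(2, 24, false)], [(2, 26, false)], [(2, 27,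 false)]],
  [[(3, 6, false), (2, 3, false), (1, 2, false), (0, 0, false), (2, 17, false), (1, 15, false), (0, 13, false), (3, 21, false), (2, 20, false), (1, 19, false), (0, 18, false), (1, 25, false), (1, 21, false), (0, 19, false), (3, 26, false), (2, 25, false), (2, 27, false), (1, 10, false), (0, 9, false), (2, 17, false), (1, 16, false), (2, 20, false), (3, 20, false), (2, 18, false), (2, 11, false), (1, 8, false), (0, 7, false), (2, 21, false), (1, 20, false), (0, 19, false), (2, 25, false), (2, 27, false), (1, 15, false), (0, 14, false), (1, 21, false), (2, 24, false), (4, 26, false), (3, 25, false), (3, 27, false), (2, 22, false), (2, 25, false)], [(3, 12, false), (2, 9, false), (1, 8, false), (4, 26, false), (3, 25, false), (3, 27, false)], [(3, 17, false), (2, 14, false), (1, 13, false), (1, 21, false)], [(3, 21, false), (2, 18, false)], [(3, 24, false)], [(3, 26, false)], [(3, 27, false)]],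
  [[(3, 6, false), (2, 3, false), (1, 2, false), (0, 1, false), (2, 17, false), (1, 16, false), (2, 20, false), (3, 20, false), (2, 18, false), (2, 25, false), (2, 12, false), (1, 8, false), (4, 27, false), (3, 11, false), (2, 10, false), (1, 7, false), (2, 18, false), (2, 17, false), (1, 13, false)], [(3, 12, false), (2, 9, false), (1, 8, false), (0, 7, false), (2, 26, false), (1, 25, false), (1, 27, false)], [(3, 17, false), (2, 14, false), (1, 13, false), (1, 21, false)], [(3, 21, false), (2, 18, false)], [(3, 24, false)], [(3, 26, false)], [(3, 27, false)]],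
  [[(4, 6, false), (3, 3, false), (2, 2, false), (1, 1, false), (0, 0, false), (2, 26, false), (3, 27, false), (2, 16, false), (1, 15, false), (0, 13, false), (3, 26, false), (2, 25, false), (2, 21, false), (1, 19, false), (0, 18, false), (2, 26, false), (1, 25, false), (1, 27, false), (0, 10, false), (2, 9, false), (1, 8, false), (0, 7, false), (2, 26, false), (1, 25, false), (1, 27, false), (0, 15, false), (4, 24, false), (3, 23, false), (2, 22, false), (2, 25, false), (3, 26, false), (2, 25, false), (2, 27, false)], [(4, 12, false), (3, 9, false), (2, 8, false), (1, 7, false), (3, 26, false), (2, 25, false), (2, 27, false)], [(4, 17, false), (3, 14, false), (2, 13, false), (2, 21, false)], [(4, 21, false), (3, 18, false)], [(4, 24, false)], [(4, 26, false)], [(4, 27, false)]],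
  [[(1, 6, false), (0, 4, false), (3, 12, false), (2, 10, false), (1, 7, false), (3, 17, false), (2, 14, false), (1, 13, false), (1, 21, false), (2, 24, false), (4, 26, false), (3, 25, false), (3, 27, false)], [(1, 12, false), (0, 10, false)], [(1, 17, false), (0, 15, false), (4, 21, false), (3, 20, false), (2, 19, false), (1, 18, false), (2, 25, false)], [(1, 21, false), (0, 19, false)], [(1, 24, false), (0, 22, false), (0, 25, false)], [(1, 26, false)], [(1, 27, false)]],
  [[(2, 6, false), (1, 4, false), (0, 0, false), (2, 12, false), (1, 10, false), (0, 8, false), (3, 17, false), (2, 16, false), (1, 15, false), (5, 26, false), (4, 25, false), (4, 21, false), (3, 19, false), (2, 18, false), (4, 21, false), (3, 20, false), (2, 19, false), (4, 25, false), (4, 27, false), (3, 22, false), (4, 12, false), (3, 11, false), (2, 9, false), (1, 8, false), (0, 7, false), (2, 26, false), (1, 25, false), (1, 27, false), (0, 19, false), (3, 27, false), (2, 16, false), (1, 15, false), (0, 14, false), (1, 21, false), (2, 24, false), (4, 26, false), (3, 25, false), (3, 27, false), (3, 23, false), (2, 22, false), (2, 25, false)], [(2,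 12, false), (1, 10, false)], [(2, 17, false), (1, 15, false), (5, 21, false), (4, 20, false), (3, 19, false), (2, 18, false), (3, 25, false)], [(2, 21, false), (1, 19, false)], [(2, 24, false), (1, 22, false), (1, 25, false)], [(2, 26, false)], [(2, 27, false)]],
  [[(2, 6, false), (1, 4, false), (0, 1, false), (2, 12, false), (1, 11, false), (3, 27, false), (4, 12, false), (3, 10, false), (2, 9, false), (1, 7, false), (2, 17, false), (1, 16, false), (2, 20, false), (3, 20, false), (2, 18, false), (3, 17, false), (2, 16, false), (1, 13, false), (1, 20, false), (2, 23, false), (3, 25, false)], [(2, 12, false), (1, 10, false), (0, 7, false)], [(2, 17, false), (1, 15, false), (5, 21, false), (4, 20, false), (3, 19, false), (2, 18, false), (3, 25, false)], [(2, 21, false), (1, 19, false)], [(2, 24, false), (1, 22, false), (1, 25, false)], [(2, 26, false)], [(2, 27, false)]],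
  [[(3, 6, false), (2, 4, false), (1, 1, false), (0, 0, false), (2, 26, false), (3, 27, false), (2, 11, false), (1, 10, false), (0, 8, false), (3, 17, false), (2, 16, false), (1, 15, false), (5, 26, false), (4, 25, false), (4, 21, false), (3, 19, false), (2, 18, false), (4, 21, false), (3, 20, false), (2, 19, false), (4, 25, false), (4, 21, false), (3, 19, false), (2, 18, false), (4, 27, false), (3, 23, false), (2, 22, false), (2, 25, false), (2, 12, false), (1, 8, false), (0, 7, false), (2, 27, false), (1, 16, false), (0, 15, false), (4, 26, false), (3, 25, false), (3, 24, false), (2, 22, false), (2, 25, false), (2, 26, false), (3, 27, false)], [(3, 12, false), (2, 10, false), (1, 7, false)], [(3, 17, false), (2, 15, false), (6, 21, false), (5, 20, false), (4, 19, false), (3, 18, false), (4, 25, false)], [(3, 21, false), (2, 19, false)], [(3, 24, false), (2, 22, false), (2, 25, false)], [(3, 26, false)], [(3, 27, false)]],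
  [[(2, 6, false), (1, 4, false), (0, 2, false), (4, 12, false), (3, 11, false), (2, 9, false), (1, 8, false), (4, 26, false), (3, 25, false), (3, 27, false), (2, 19, false), (5, 27, false), (4, 23, false), (3, 22, false), (3, 25, false), (3, 12, false), (2, 9, false), (1, 7, false), (2, 27, false), (1, 16, false), (2, 23, false), (3, 25, false)], [(2, 12, false), (1, 10, false), (0, 8, false), (3, 17, false), (2, 16, false), (1, 15, false), (5, 26, false), (4, 25, false), (4, 21, false), (3, 19, false), (2, 18, false), (4, 21, false), (3, 20, false), (2, 19, false), (4, 25, false), (4, 27, false)], [(2, 17, false), (1, 15, false), (0, 13, false), (3, 21, false), (2, 20, false), (1, 19, false), (0, 18, false), (1, 25, false)], [(2, 21, false), (1, 19, false)], [(2, 24, false), (1, 22, false), (1, 25, false)], [(2, 26, false)], [(2, 27, false)]],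
  [[(3, 6, false), (2, 4, false), (1, 2, false), (0, 0, false), (2, 17, false), (1, 15, false), (0, 13, false), (3, 21, false), (2, 20, false), (1, 19, false), (0, 18, false), (1, 25, false), (1, 21, false), (0, 19, false), (3, 26, false), (2, 25, false), (2, 27, false), (1, 10, false), (0, 9, false), (2, 17, false), (1, 16, false), (2, 20, false), (3, 20, false), (2, 18, false), (2, 23, false), (4, 12, false), (3, 11, false), (2, 10, false), (1, 8, false), (0, 7, false), (2, 17, false), (1, 16, false), (0, 15, false), (4, 26, false), (3, 25, false), (3, 21, false), (2, 19, false), (1, 18, false), (3, 21, false), (2, 20, false), (1, 19, false), (3, 25, false), (3, 21, false), (2, 19, false), (1, 18, false), (3, 27, false), (3, 17, false), (2, 16, false), (1, 15, false), (0, 13, false), (3, 26, false), (2, 25, false), (2, 21, false), (1, 19, false), (0, 18, false), (2, 24, false), (1, 23, false), (0, 22, false), (0, 25, false), (1, 26, false), (0, 25, false), (0, 27, false)], [(3, 12, false), (2, 10, false), (1, 8, false), (4, 17, false), (3, 16, false), (2, 15, false), (6, 26, false), (5, 25, false), (5, 21, false), (4,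 19, false), (3, 18, false), (5, 21, false), (4, 20, false), (3, 19, false), (5, 25, false), (5, 27, false)], [(3, 17, false), (2, 15, false), (1, 13, false), (4, 21, false), (3, 20, false), (2, 19, false), (1, 18, false), (2, 25, false)], [(3, 21, false), (2, 19, false)], [(3, 24, false), (2, 22, false), (2, 25, false)], [(3, 26, false)], [(3, 27, false)]],
  [[(3, 6, false), (2, 4, false), (1, 2, false), (0, 1, false), (2, 17, false), (1, 16, false), (2, 20, false), (3, 20, false), (2, 18, false), (2, 25, false), (2, 12, false), (1, 8, false), (4, 27, false), (3, 23, false), (2, 22, false), (2, 25, false), (2, 12, false), (1, 7, false), (1, 17, false)], [(3, 12, false), (2, 10, false), (1, 8, false), (0, 7, false), (2, 17, false), (1, 16, false), (0, 15, false), (4, 26, false), (3, 25, false), (3, 21, false), (2, 19, false), (1, 18, false), (3, 21, false), (2, 20, false), (1, 19, false), (3, 25, false), (3, 27, false)], [(3, 17, false), (2, 15, false), (1, 13, false), (4, 21, false), (3, 20, false), (2, 19, false), (1, 18, false), (2, 25, false)], [(3, 21, false), (2, 19, false)], [(3, 24, false), (2, 22, false), (2,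 25, false)], [(3, 26, false)], [(3, 27, false)]],
  [[(4, 6, false), (3, 4, false), (2, 2, false), (1, 1, false), (0, 0, false), (2, 26, false), (3, 27, false), (2, 16, false), (1, 15, false), (0, 13, false), (3, 26, false), (2, 25, false), (2, 21, false), (1, 19, false), (0, 18, false), (2, 26, false), (1, 25, false), (1, 27, false), (0, 10, false), (4, 12, false), (3, 10, false), (2, 9, false), (1, 8, false), (0, 7, false), (2, 26, false), (1, 25, false), (1, 27, false), (0, 15, false), (4, 21, false), (3, 20, false), (2, 19, false), (1, 18, false), (2, 25, false), (2, 27, false), (1, 15, false), (0, 13, false), (3, 24, false), (2, 23, false), (1, 22, false), (1, 25, false), (2, 26, false), (1, 25, false), (1, 27, false)], [(4, 12, false), (3, 10, false), (2, 8, false), (1, 7, false), (3, 17, false), (2, 16, false), (1, 15, false), (5, 26, false), (4, 25, false), (4, 21, false), (3, 19, false), (2, 18, false), (4, 21, false), (3, 20, false), (2, 19, false), (4, 25, false), (4, 27, false)], [(4, 17, false), (3, 15, false), (2, 13, false), (5, 21, false), (4, 20, false), (3, 19, false), (2, 18, false), (3, 25, false)],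 [(4, 21, false), (3, 19, false)], [(4, 24, false), (3, 22, false), (3, 25, false)], [(4, 26, false)], [(4, 27, false)]],
  [[(2, 6, false), (1, 4, false), (0, 3, false), (1, 7, false), (2, 12, false), (1, 10, false), (4, 17, false), (3, 14, false), (2, 13, false), (2, 21, false), (3, 24, false), (5, 26, false), (4, 25, false), (4, 27, false)], [(2, 12, false), (1, 10, false), (0, 9, false), (2, 17, false), (1, 16, false), (2, 20, false), (3, 20, false), (2, 18, false)], [(2, 17, false), (1, 15, false), (0, 14, false), (1, 21, false), (2, 24, false), (4, 26, false), (3, 25, false), (3, 27, false), (2, 19, false), (1, 18, false)], [(2, 21, false), (1, 19, false), (0, 18, false)], [(2, 24, false), (1, 22, false), (1, 25, false)], [(2, 26, false)], [(2, 27, false)]],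
  [[(3, 6, false), (2, 4, false), (1, 3, false), (0, 0, false), (2, 12, false), (1, 10, false), (0, 8, false), (3, 17, false), (2, 16, false), (1, 15, false), (5, 26, false), (4, 25, false), (4, 21, false), (3, 19, false), (2, 18, false), (4, 21, false), (3, 20, false), (2, 19, false), (4, 25, false), (4, 27, false), (3, 10, false), (2, 9, false), (1, 8, false), (0, 7, false), (2, 26, false), (1, 25, false), (1, 27, false), (0, 15, false), (4, 21, false), (3, 20, false), (2, 19, false), (1, 18, false), (2, 25, false), (2, 24, false), (1, 22, false), (1, 25, false), (1, 27, false), (0, 8, false), (3, 17, false), (2, 16, false), (1, 15, false), (5, 26, false), (4, 25, false), (4, 21, false), (3, 19, false), (2, 18, false), (4, 24, false), (3, 23, false), (2, 22, false), (2, 25, false), (3, 26, false), (2, 25, false), (2, 27, false)], [(3, 12, false), (2, 10, false), (1, 9, false), (3, 17, false), (2, 16, false), (3, 20, false), (4, 20, false), (3, 18, false)], [(3, 17, false), (2, 15, false), (1, 14, false), (2, 21, false), (3, 24, false), (5, 26, false), (4, 25, false), (4, 27, false), (3, 19, false), (2, 18, false)], [(3,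 21, false), (2, 19, false), (1, 18, false)], [(3, 24, false), (2, 22, false), (2, 25, false)], [(3, 26, false)], [(3, 27, false)]],
  [[(3, 6, false), (2, 4, false), (1, 3, false), (0, 1, false), (2, 12, false), (1, 11, false), (3, 27, false), (2, 9, false), (1, 7, false), (2, 24, false), (1, 23, false), (2, 25, false), (2, 27, false), (1, 10, false), (3, 14, false), (2, 13, false), (2, 24, false), (4, 26, false), (3, 25, false), (3, 27, false)], [(3, 12, false), (2, 10, false), (1, 9, false), (0, 7, false), (1, 17, false), (0, 16, false), (1, 20, false), (2, 20, false), (1, 18, false)], [(3, 17, false), (2, 15, false), (1, 14, false), (2, 21, false), (3, 24, false), (5, 26, false), (4, 25, false), (4, 27, false), (3, 19, false), (2, 18, false)], [(3, 21, false), (2, 19, false), (1, 18, false)], [(3, 24, false), (2, 22, false), (2, 25, false)], [(3, 26, false)], [(3, 27, false)]],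
  [[(4, 6, false), (3, 4, false), (2, 3, false), (1, 1, false), (0, 0, false), (2, 26, false), (3, 27, false), (2, 11, false), (1, 10, false), (0, 8, false), (3, 17, false), (2, 16, false), (1, 15, false), (5, 26, false), (4, 25, false), (4, 21, false), (3, 19, false), (2, 18, false), (4, 21, false), (3, 20, false), (2, 19, false), (4, 25, false), (4, 21, false), (3, 19, false), (2, 18, false), (4, 27, false), (3, 11, false), (2, 10, false), (1, 8, false), (0, 7, false), (2, 17, false), (1, 16, false), (0, 15, false), (4, 26, false), (3, 25, false), (3, 21, false), (2, 19, false), (1, 18, false), (3, 21, false), (2, 20, false), (1, 19, false), (3, 25, false), (3, 21, false), (2, 19, false), (1, 18, false), (3, 27, false), (2, 23, false), (1, 22, false), (1, 25, false), (1, 12, false), (0, 8, false), (3, 27, false), (2, 16, false), (1, 15, false), (5, 26, false), (4, 25, false), (4, 24, false), (3, 22, false), (3, 25, false), (3, 26, false), (4, 27, false)], [(4, 12, false), (3, 10, false), (2, 9, false), (1, 7, false), (2, 17, false), (1, 16, false), (2, 20, false), (3, 20, false), (2, 18, false)], [(4, 17, false), (3,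 15, false), (2, 14, false), (3, 21, false), (4, 24, false), (6, 26, false), (5, 25, false), (5, 27, false), (4, 19, false), (3, 18, false)], [(4, 21, false), (3, 19, false), (2, 18, false)], [(4, 24, false), (3, 22, false), (3, 25, false)], [(4, 26, false)], [(4, 27, false)]],
  [[(3, 6, false), (2, 4, false), (1, 3, false), (0, 2, false), (4, 12, false), (3, 11, false), (2, 9, false), (1, 8, false), (4, 26, false), (3, 25, false), (3, 27, false), (2, 19, false), (5, 27, false), (4, 11, false), (3, 10, false), (2, 9, false), (1, 7, false), (2, 17, false), (1, 16, false), (2, 20, false), (3, 20, false), (2, 18, false), (2, 20, false), (4, 24, false), (3, 23, false), (4, 25, false), (4, 27, false), (3, 10, false), (2, 9, false), (1, 8, false), (4, 26, false), (3, 25, false), (3, 27, false), (2, 15, false), (6, 21, false), (5, 20, false), (4, 19, false), (3, 18, false), (4, 25, false), (4, 17, false), (3, 15, false), (2, 13, false), (5, 21, false), (4, 20, false), (3, 19, false), (2, 18, false), (3, 25, false), (3, 24, false), (2, 22, false), (2, 25, false), (2, 26, false), (3, 27, false)], [(3, 12, false), (2, 10, false),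 (1, 9, false), (0, 8, false), (3, 26, false), (2, 25, false), (2, 27, false), (1, 15, false), (5, 21, false), (4, 20, false), (3, 19, false), (2, 18, false), (3, 25, false), (3, 27, false)], [(3, 17, false), (2, 15, false), (1, 14, false), (0, 13, false), (0, 21, false), (1, 24, false), (3, 26, false), (2, 25, false), (2, 27, false), (1, 19, false), (0, 18, false)], [(3, 21, false), (2, 19, false), (1, 18, false)], [(3, 24, false), (2, 22, false), (2, 25, false)], [(3, 26, false)], [(3, 27, false)]],
  [[(4, 6, false), (3, 4, false), (2, 3, false), (1, 2, false), (0, 0, false), (2, 17, false), (1, 15, false), (0, 13, false), (3, 21, false), (2, 20, false), (1, 19, false), (0, 18, false), (1, 25, false), (1, 21, false), (0, 19, false), (3, 26, false), (2, 25, false), (2, 27, false), (1, 10, false), (0, 9, false), (2, 17, false), (1, 16, false), (2, 20, false), (3, 20, false), (2, 18, false), (2, 11, false), (1, 8, false), (0, 7, false), (2, 21, false), (1, 20, false), (0, 19, false), (2, 25, false), (2, 27, false), (1, 22, false), (2, 12, false), (1, 11, false), (0, 9, false), (2, 21, false), (1, 20, false), (3, 27, false),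 (3, 17, false), (2, 16, false), (1, 14, false), (2, 26, false), (3, 21, false), (2, 20, false), (4, 24, false), (3, 23, false), (4, 25, false), (4, 26, false), (5, 27, false)], [(4, 12, false), (3, 10, false), (2, 9, false), (1, 8, false), (4, 26, false), (3, 25, false), (3, 27, false), (2, 15, false), (6, 21, false), (5, 20, false), (4, 19, false), (3, 18, false), (4, 25, false), (4, 27, false)], [(4, 17, false), (3, 15, false), (2, 14, false), (1, 13, false), (1, 21, false), (2, 24, false), (4, 26, false), (3, 25, false), (3, 27, false), (2, 19, false), (1, 18, false)], [(4, 21, false), (3, 19, false), (2, 18, false)], [(4, 24, false), (3, 22, false), (3, 25, false)], [(4, 26, false)], [(4, 27, false)]],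
  [[(4, 6, false), (3, 4, false), (2, 3, false), (1, 2, false), (0, 1, false), (2, 17, false), (1, 16, false), (2, 20, false), (3, 20, false), (2, 18, false), (2, 25, false), (2, 12, false), (1, 8, false), (4, 27, false), (3, 11, false), (2, 10, false), (1, 7, false), (2, 18, false), (2, 24, false), (4, 27, false), (3, 11, false), (2, 10, false), (1, 8, false), (4, 17, false), (3, 16, false), (2, 15, false), (6, 26, false), (5, 25, false), (5, 21, false), (4, 19, false), (3, 18, false), (5, 21, false), (4, 20, false), (3, 19, false), (5, 25, false), (5, 21, false), (4, 19, false), (3, 18, false), (5, 27, false), (4, 16, false), (3, 15, false), (2, 13, false), (5, 26, false), (4, 25, false), (4, 24, false), (3, 22, false), (3, 25, false), (3, 26, false), (4, 27, false)], [(4, 12, false), (3, 10, false), (2, 9, false), (1, 8, false), (0, 7, false), (2, 26, false), (1, 25, false), (1, 27, false), (0, 15, false), (4, 21, false), (3, 20, false), (2, 19, false), (1, 18, false), (2, 25, false), (2, 27, false)], [(4, 17, false), (3, 15, false), (2, 14, false), (1, 13, false), (1, 21, false), (2, 24, false), (4, 26, false), (3,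 25, false), (3, 27, false), (2, 19, false), (1, 18, false)], [(4, 21, false), (3, 19, false), (2, 18, false)], [(4, 24, false), (3, 22, false), (3, 25, false)], [(4, 26, false)], [(4, 27, false)]],
  [[(5, 6, false), (4, 4, false), (3, 3, false), (2, 2, false), (1, 1, false), (0, 0, false), (2, 26, false), (3, 27, false), (2, 16, false), (1, 15, false), (0, 13, false), (3, 26, false), (2, 25, false), (2, 21, false), (1, 19, false), (0, 18, false), (2, 26, false), (1, 25, false), (1, 27, false), (0, 10, false), (2, 9, false), (1, 8, false), (0, 7, false), (2, 26, false), (1, 25, false), (1, 27, false), (0, 22, false), (1, 12, false), (0, 11, false), (2, 27, false), (1, 14, false), (2, 24, false), (4, 26, false), (3, 25, false), (3, 27, false)], [(5, 12, false), (4, 10, false), (3, 9, false), (2, 8, false), (1, 7, false), (3, 26, false), (2, 25, false), (2, 27, false), (1, 15, false), (5, 21, false), (4, 20, false), (3, 19, false), (2, 18, false), (3, 25, false), (3, 27, false)], [(5, 17, false), (4, 15, false), (3, 14, false), (2, 13, false), (2, 21, false), (3, 24, false), (5, 26, false), (4, 25, false), (4, 27, false),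 (3, 19, false), (2, 18, false)], [(5, 21, false), (4, 19, false), (3, 18, false)], [(5, 24, false), (4, 22, false), (4, 25, false)], [(5, 26, false)], [(5, 27, false)]],
  [[(1, 6, false), (0, 5, false), (4, 11, false), (3, 10, false), (2, 9, false), (1, 8, false), (4, 26, false), (3, 25, false), (3, 27, false), (2, 15, false), (6, 21, false), (5, 20, false), (4, 19, false), (3, 18, false), (4, 25, false), (4, 21, false), (3, 19, false), (6, 27, false), (5, 16, false), (4, 15, false), (3, 14, false), (2, 13, false), (2, 21, false), (3, 24, false), (5, 26, false), (4, 25, false), (4, 27, false), (4, 23, false), (3, 22, false), (3, 25, false)], [(1, 12, false), (0, 11, false), (2, 27, false)], [(1, 17, false), (0, 16, false), (1, 20, false)], [(1, 21, false), (0, 20, false)], [(1, 24, false), (0, 23, false), (1, 25, false)], [(1, 26, false), (0, 25, false)], [(1, 27, false)]],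
  [[(2, 6, false), (1, 5, false), (0, 0, false), (2, 17, false), (1, 15, false), (0, 13, false), (3, 21, false), (2, 20, false), (1, 19, false), (0, 18, false), (1, 25, false), (1, 21, false), (0, 19, false), (3, 24, false), (2, 23, false), (1, 22, false), (1, 25, false), (2, 26, false), (1, 25, false), (1, 12, false), (0, 9, false), (2, 27, false), (1, 16, false), (2, 23, false), (3, 25, false)], [(2, 12, false), (1, 11, false), (3, 27, false)], [(2, 17, false), (1, 16, false), (2, 20, false)], [(2, 21, false), (1, 20, false)], [(2, 24, false), (1, 23, false), (2, 25, false)], [(2, 26, false), (1, 25, false)], [(2, 27, false)]],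
  [[(2, 6, false), (1, 5, false), (0, 1, false), (2, 17, false), (1, 16, false), (2, 20, false), (3, 20, false), (2, 18, false), (2, 23, false), (3, 25, false), (2, 10, false), (1, 8, false), (4, 17, false), (3, 16, false), (2, 15, false), (6, 26, false), (5, 25, false), (5, 21, false), (4, 19, false), (3, 18, false), (5, 21, false), (4, 20, false), (3, 19, false), (5, 25, false), (5, 17, false), (4, 15, false), (3, 14, false), (2, 13, false), (2, 21, false), (3, 24, false), (5, 26, false), (4, 25, false), (4, 27, false), (3, 19, false), (2, 18, false), (3, 23, false), (2, 22, false), (2, 25, false)], [(2, 12, false), (1, 11, false), (0, 7, false), (1, 27, false)], [(2, 17, false), (1, 16, false), (2, 20, false)], [(2, 21, false), (1, 20, false)], [(2, 24, false), (1, 23, false), (2, 25, false)], [(2, 26, false), (1, 25, false)], [(2, 27, false)]],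
  [[(3, 6, false), (2, 5, false), (1, 1, false), (0, 0, false), (2, 26, false), (3, 27, false), (2, 16, false), (1, 15, false), (0, 13, false), (3, 26, false), (2, 25, false), (2, 21, false), (1, 19, false), (0, 18, false), (2, 24, false), (1, 23, false), (0, 22, false), (0, 25, false), (1, 26, false), (0, 25, false), (0, 12, false), (1, 17, false)], [(3, 12, false), (2, 11, false), (1, 7, false), (2, 27, false)], [(3, 17, false), (2, 16, false), (3, 20, false)], [(3, 21, false), (2, 20, false)], [(3, 24, false), (2, 23, false), (3, 25, false)], [(3, 26, false), (2, 25, false)], [(3, 27, false)]],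
  [[(2, 6, false), (1, 5, false), (0, 2, false), (4, 17, false), (3, 16, false), (2, 14, false), (1, 13, false), (1, 26, false), (2, 21, false), (1, 20, false), (3, 21, false), (2, 20, false), (1, 18, false), (2, 24, false), (1, 23, false), (2, 25, false), (2, 26, false), (3, 12, false), (2, 11, false), (1, 10, false), (3, 18, false), (3, 27, false), (2, 13, false)], [(2, 12, false), (1, 11, false), (0, 8, false), (3, 21, false), (2, 20, false), (1, 19, false), (3, 25, false), (3, 27, false)], [(2, 17, false), (1, 16, false), (0, 13, false), (0, 20, false)], [(2, 21, false), (1, 20, false)], [(2, 24, false), (1, 23, false), (2, 25, false)], [(2, 26, false), (1, 25, false)], [(2, 27, false)]],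
  [[(3, 6, false), (2, 5, false), (1, 2, false), (0, 0, false), (2, 17, false), (1, 15, false), (0, 13, false), (3, 21, false), (2, 20, false), (1, 19, false), (0, 18, false), (1, 25, false), (1, 21, false), (0, 19, false), (3, 26, false), (2, 25, false), (2, 27, false), (1, 15, false), (0, 14, false), (1, 21, false), (2, 24, false), (4, 26, false), (3, 25, false), (3, 27, false), (2, 19, false), (1, 18, false), (2, 23, false), (1, 22, false), (1, 25, false), (1, 11, false), (0, 8, false), (3, 21, false), (2, 20, false), (1, 19, false), (3, 25, false), (3, 27, false), (2, 15, false), (1, 14, false), (2, 21, false), (3, 24, false), (5, 26, false), (4, 25, false), (4, 27, false), (3, 22, false), (3, 25, false)], [(3, 12, false), (2, 11, false), (1, 8, false), (4, 21, false), (3, 20, false), (2, 19, false), (4, 25, false), (4, 27, false)], [(3, 17, false), (2, 16, false), (1, 13, false), (1, 20, false)], [(3, 21, false), (2, 20, false)], [(3, 24, false), (2, 23, false), (3, 25, false)], [(3, 26, false), (2, 25, false)], [(3, 27, false)]],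
  [[(3, 6, false), (2, 5, false), (1, 2, false), (0, 1, false), (2, 17, false), (1, 16, false), (2, 20, false), (3, 20, false), (2, 18, false), (2, 25, false), (2, 17, false), (1, 13, false), (1, 18, false), (2, 11, false), (1, 10, false), (3, 18, false), (3, 17, false), (2, 13, false)], [(3, 12, false), (2, 11, false), (1, 8, false), (0, 7, false), (2, 21, false), (1, 20, false), (0, 19, false), (2, 25, false), (2, 27, false)], [(3, 17, false), (2, 16, false), (1, 13, false), (1, 20, false)], [(3, 21, false), (2, 20, false)], [(3, 24, false), (2, 23, false), (3, 25, false)], [(3, 26, false), (2, 25, false)], [(3, 27, false)]],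
  [[(4, 6, false), (3, 5, false), (2, 2, false), (1, 1, false), (0, 0, false), (2, 26, false), (3, 27, false), (2, 16, false), (1, 15, false), (0, 13, false), (3, 26, false), (2, 25, false), (2, 21, false), (1, 19, false), (0, 18, false), (2, 26, false), (1, 25, false), (1, 27, false), (0, 15, false), (4, 21, false), (3, 20, false), (2, 19, false), (1, 18, false), (2, 25, false), (2, 24, false), (1, 22, false), (1, 25, false), (1, 26, false), (2, 12, false), (1, 11, false), (0, 8, false), (3, 21, false), (2, 20, false), (1, 19, false), (3, 25, false), (3, 27, false), (3, 17, false), (2, 15, false), (1, 14, false), (2, 21, false), (3, 24, false), (5, 26, false), (4, 25, false), (4, 27, false), (3, 19, false), (2, 18, false), (3, 23, false), (2, 22, false), (2, 25, false)], [(4, 12, false), (3, 11, false), (2, 8, false), (1, 7, false), (3, 21, false), (2, 20, false), (1, 19, false), (3, 25, false), (3, 27, false)], [(4, 17, false), (3, 16, false), (2, 13, false), (2, 20, false)], [(4, 21, false), (3, 20, false)], [(4, 24, false), (3, 23, false), (4, 25, false)], [(4, 26, false), (3, 25, false)], [(4, 27, false)]],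
  [[(2, 6, false), (1, 5, false), (0, 3, false), (5, 11, false), (4, 10, false), (3, 9, false), (2, 8, false), (1, 7, false), (3, 26, false), (2, 25, false), (2, 27, false), (1, 15, false), (5, 21, false), (4, 20, false), (3, 19, false), (2, 18, false), (3, 25, false), (3, 21, false), (2, 19, false), (5, 27, false), (4, 16, false), (3, 15, false), (2, 14, false), (1, 13, false), (1, 21, false), (2, 24, false), (4, 26, false), (3, 25, false), (3, 27, false), (3, 23, false), (2, 22, false), (2, 25, false)], [(2, 12, false), (1, 11, false), (0, 9, false), (2, 21, false), (1, 20, false), (3, 27, false)], [(2, 17, false), (1, 16, false), (0, 14, false), (1, 26, false), (2, 21, false), (1, 20, false)], [(2, 21, false), (1, 20, false), (0, 18, false)], [(2, 24, false), (1, 23, false), (2, 25, false)], [(2, 26, false), (1, 25, false)], [(2, 27, false)]],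
  [[(3, 6, false), (2, 5, false), (1, 3, false), (0, 0, false), (2, 12, false), (1, 10, false), (0, 8, false), (3, 17, false), (2, 16, false), (1, 15, false), (5, 26, false), (4, 25, false), (4, 21, false), (3, 19, false), (2, 18, false), (4, 21, false), (3, 20, false), (2, 19, false), (4, 25, false), (4, 27, false), (3, 15, false), (2, 14, false), (1, 13, false), (1, 21, false), (2, 24, false), (4, 26, false), (3, 25, false), (3, 27, false), (2, 19, false), (1, 18, false), (2, 23, false), (1, 22, false), (1, 25, false), (1, 11, false), (0, 7, false), (1, 17, false), (0, 14, false), (1, 21, false), (2, 24, false), (4, 26, false), (3, 25, false), (3, 27, false)], [(3, 12, false), (2, 11, false), (1, 9, false), (3, 21, false), (2, 20, false), (4, 27, false)], [(3, 17, false), (2, 16, false), (1, 14, false), (2, 26, false), (3, 21, false), (2, 20, false)], [(3, 21, false), (2, 20, false), (1, 18, false)], [(3, 24, false), (2, 23, false), (3, 25, false)], [(3, 26, false), (2, 25, false)], [(3, 27, false)]],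
  [[(3, 6, false), (2, 5, false), (1, 3, false), (0, 1, false), (2, 12, false), (1, 11, false), (3, 27, false), (2, 14, false), (3, 21, false), (4, 24, false), (6, 26, false), (5, 25, false), (5, 12, false), (4, 10, false), (3, 9, false), (2, 8, false), (1, 7, false), (3, 26, false), (2, 25, false), (2, 27, false), (1, 15, false), (5, 21, false), (4, 20, false), (3, 19, false), (2, 18, false), (3, 25, false), (3, 27, false), (2, 15, false), (1, 13, false), (4, 24, false), (3, 23, false), (2, 22, false), (2, 25, false), (3, 26, false), (2, 25, false), (2, 27, false)], [(3, 12, false), (2, 11, false), (1, 9, false), (0, 7, false), (1, 21, false), (0, 20, false), (2, 27, false)], [(3, 17, false), (2, 16, false), (1, 14, false), (2, 26, false), (3, 21, false), (2, 20, false)], [(3, 21, false), (2, 20, false), (1, 18, false)], [(3, 24, false), (2, 23, false), (3, 25, false)], [(3, 26, false), (2, 25, false)], [(3, 27, false)]],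
  [[(4, 6, false), (3, 5, false), (2, 3, false), (1, 1, false), (0, 0, false), (2, 26, false), (3, 27, false), (2, 11, false), (1, 10, false), (0, 8, false), (3, 17, false), (2, 16, false), (1, 15, false), (5, 26, false), (4, 25, false), (4, 21, false), (3, 19, false), (2, 18, false), (4, 21, false), (3, 20, false), (2, 19, false), (4, 25, false), (4, 21, false), (3, 19, false), (2, 18, false), (4, 27, false), (3, 16, false), (2, 15, false), (1, 13, false), (4, 26, false), (3, 25, false), (3, 21, false), (2, 19, false), (1, 18, false), (3, 24, false), (2, 23, false), (1, 22, false), (1, 25, false), (2, 26, false), (1, 25, false), (1, 12, false), (0, 7, false), (0, 17, false)], [(4, 12, false), (3, 11, false), (2, 9, false), (1, 7, false), (2, 21, false), (1, 20, false), (3, 27, false)], [(4, 17, false), (3, 16, false), (2, 14, false), (3, 26, false), (4, 21, false), (3, 20, false)], [(4, 21, false), (3, 20, false), (2, 18, false)], [(4, 24, false), (3, 23, false), (4, 25, false)], [(4, 26, false), (3, 25, false)], [(4, 27, false)]],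
  [[(3, 6, false), (2, 5, false), (1, 3, false), (0, 2, false), (4, 12, false), (3, 11, false), (2, 9, false), (1, 8, false), (4, 26, false), (3, 25, false), (3, 27, false), (2, 19, false), (5, 27, false), (4, 16, false), (3, 15, false), (2, 14, false), (3, 21, false), (4, 24, false), (6, 26, false), (5, 25, false), (5, 27, false), (5, 20, false), (4, 19, false), (3, 18, false), (4, 25, false), (3, 22, false), (3, 25, false), (2, 8, false), (1, 7, false), (3, 17, false), (2, 16, false), (1, 15, false), (5, 26, false), (4, 25, false), (4, 21, false), (3, 19, false), (2, 18, false), (4, 24, false), (3, 23, false), (2, 22, false), (2, 25, false), (3, 26, false), (2, 25, false), (2, 27, false)], [(3, 12, false), (2, 11, false), (1, 9, false), (0, 8, false), (3, 26, false), (2, 25, false), (2, 27, false), (1, 19, false), (4, 27, false)], [(3, 17, false), (2, 16, false), (1, 14, false), (0, 13, false), (0, 26, false), (1, 21, false), (0, 20, false)], [(3, 21, false), (2, 20, false), (1, 18, false)], [(3, 24, false), (2, 23, false), (3, 25, false)], [(3, 26, false), (2, 25, false)], [(3, 27, false)]],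
  [[(4, 6, false), (3, 5, false), (2, 3, false), (1, 2, false), (0, 0, false), (2, 17, false), (1, 15, false), (0, 13, false), (3, 21, false), (2, 20, false), (1, 19, false), (0, 18, false), (1, 25, false), (1, 21, false), (0, 19, false), (3, 26, false), (2, 25, false), (2, 27, false), (1, 10, false), (0, 9, false), (2, 17, false), (1, 16, false), (2, 20, false), (3, 20, false), (2, 18, false), (2, 16, false), (1, 13, false), (1, 20, false), (2, 23, false), (3, 25, false), (2, 10, false), (1, 9, false), (0, 7, false), (1, 17, false), (0, 16, false), (1, 20, false), (2, 20, false), (1, 18, false), (1, 16, false), (0, 13, false), (0, 23, false), (1, 25, false)], [(4, 12, false), (3, 11, false), (2, 9, false), (1, 8, false), (4, 26, false), (3, 25, false), (3, 27, false), (2, 19, false), (5, 27, false)], [(4, 17, false), (3, 16, false), (2, 14, false), (1, 13, false), (1, 26, false), (2, 21, false), (1, 20, false)], [(4, 21, false), (3, 20, false), (2, 18, false)], [(4, 24, false), (3, 23, false), (4, 25, false)], [(4, 26, false), (3, 25, false)], [(4, 27, false)]],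
  [[(4, 6, false), (3, 5, false), (2, 3, false), (1, 2, false), (0, 1, false), (2, 17, false), (1, 16, false), (2, 20, false), (3, 20, false), (2, 18, false), (2, 25, false), (2, 12, false), (1, 8, false), (4, 27, false), (3, 16, false), (2, 15, false), (6, 26, false), (5, 25, false), (5, 21, false), (4, 19, false), (3, 18, false), (5, 24, false), (4, 23, false), (3, 22, false), (3, 25, false), (4, 26, false), (3, 25, false), (3, 12, false), (2, 8, false), (1, 7, false), (3, 27, false), (2, 16, false), (1, 15, false), (5, 26, false), (4, 25, false), (4, 24, false), (3, 22, false), (3, 25, false), (3, 26, false), (4, 27, false)], [(4, 12, false), (3, 11, false), (2, 9, false), (1, 8, false), (0, 7, false), (2, 26, false), (1, 25, false), (1, 27, false), (0, 19, false), (3, 27, false)], [(4, 17, false), (3, 16, false), (2, 14, false), (1, 13, false), (1, 26, false), (2, 21, false), (1, 20, false)], [(4, 21, false), (3, 20, false), (2, 18, false)], [(4, 24, false), (3, 23, false), (4, 25, false)], [(4, 26, false), (3, 25, false)], [(4, 27, false)]],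
  [[(5, 6, false), (4, 5, false), (3, 3, false), (2, 2, false), (1, 1, false), (0, 0, false), (2, 26, false), (3, 27, false), (2, 16, false), (1, 15, false), (0, 13, false), (3, 26, false), (2, 25, false), (2, 21, false), (1, 19, false), (0, 18, false), (2, 26, false), (1, 25, false), (1, 27, false), (0, 10, false), (2, 14, false), (1, 13, false), (1, 21, false), (2, 24, false), (4, 26, false), (3, 25, false), (3, 12, false), (2, 10, false), (1, 9, false), (0, 7, false), (1, 17, false), (0, 16, false), (1, 20, false), (2, 20, false), (1, 18, false), (2, 17, false), (1, 16, false), (0, 13, false), (0, 20, false), (1, 23, false), (2, 25, false)], [(5, 12, false), (4, 11, false), (3, 9, false), (2, 8, false), (1, 7, false), (3, 26, false), (2, 25, false), (2, 27, false), (1, 19, false), (4, 27, false)], [(5, 17, false), (4, 16, false), (3, 14, false), (2, 13, false), (2, 26, false), (3, 21, false), (2, 20, false)], [(5, 21, false), (4, 20, false), (3, 18, false)], [(5, 24, false), (4, 23, false), (5, 25, false)], [(5, 26, false), (4, 25, false)], [(5, 27, false)]],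
  [[(2, 6, false), (1, 5, false), (0, 4, false), (3, 17, false), (2, 15, false), (6, 21, false), (5, 20, false), (4, 19, false), (3, 18, false), (4, 25, false), (4, 21, false), (3, 19, false), (6, 24, false), (5, 23, false), (4, 22, false), (4, 25, false), (5, 26, false), (4, 25, false), (4, 12, false), (3, 9, false), (2, 8, false), (1, 7, false), (3, 26, false), (2, 25, false), (2, 27, false), (2, 17, false), (1, 15, false), (5, 21, false), (4, 20, false), (3, 19, false), (2, 18, false), (3, 25, false), (3, 24, false), (2, 22, false), (2, 25, false), (2, 26, false), (3, 27, false)], [(2, 12, false), (1, 11, false), (0, 10, false), (2, 18, false), (2, 27, false)], [(2, 17, false), (1, 16, false), (0, 15, false), (4, 26, false), (3, 25, false), (3, 21, false), (2, 19, false), (1, 18, false)], [(2, 21, false), (1, 20, false), (0, 19, false), (2, 25, false)], [(2, 24, false), (1, 23, false), (0, 22, false), (0, 25, false)], [(2, 26, false), (1, 25, false)], [(2, 27, false)]],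
  [[(3, 6, false), (2, 5, false), (1, 4, false), (0, 0, false), (2, 12, false), (1, 10, false), (0, 8, false), (3, 17, false), (2, 16, false), (1, 15, false), (5, 26, false), (4, 25, false), (4, 21, false), (3, 19, false), (2, 18, false), (4, 21, false), (3, 20, false), (2, 19, false), (4, 25, false), (4, 27, false), (3, 22, false), (4, 17, false), (3, 16, false), (2, 14, false), (1, 13, false), (1, 26, false), (2, 21, false), (1, 20, false), (3, 21, false), (2, 20, false), (1, 18, false), (2, 24, false), (1, 23, false), (2, 25, false), (2, 26, false), (3, 12, false), (2, 11, false), (1, 10, false), (0, 7, false), (1, 18, false), (1, 27, false), (0, 13, false)], [(3, 12, false), (2, 11, false), (1, 10, false), (3, 18, false), (3, 27, false)], [(3, 17, false), (2, 16, false), (1, 15, false), (5, 26, false), (4, 25, false), (4, 21, false), (3, 19, false), (2, 18, false)], [(3, 21, false), (2, 20, false), (1, 19, false), (3, 25, false)], [(3, 24, false), (2, 23, false), (1, 22, false), (1, 25, false)], [(3, 26, false), (2, 25, false)], [(3, 27, false)]],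
  [[(3, 6, false), (2, 5, false), (1, 4, false), (0, 1, false), (2, 12, false), (1, 11, false), (3, 27, false), (4, 17, false), (3, 15, false), (2, 14, false), (3, 21, false), (4, 24, false), (6, 26, false), (5, 25, false), (5, 27, false), (4, 19, false), (3, 18, false), (4, 20, false), (3, 19, false), (5, 25, false), (4, 22, false), (4, 25, false), (3, 9, false), (2, 8, false), (1, 7, false), (3, 26, false), (2, 25, false), (2, 27, false), (1, 15, false), (5, 24, false), (4, 23, false), (3, 22, false), (3, 25, false), (4, 26, false), (3, 25, false), (3, 27, false)], [(3, 12, false), (2, 11, false), (1, 10, false), (0, 7, false), (1, 18, false), (1, 27, false)], [(3, 17, false), (2, 16, false), (1, 15, false), (5, 26, false), (4, 25, false), (4, 21, false), (3, 19, false), (2, 18, false)], [(3, 21, false), (2, 20, false), (1, 19, false), (3, 25, false)], [(3, 24, false), (2, 23, false), (1, 22, false), (1, 25, false)], [(3, 26, false), (2, 25, false)], [(3, 27, false)]],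
  [[(4, 6, false), (3, 5, false), (2, 4, false), (1, 1, false), (0, 0, false), (2, 26, false), (3, 27, false), (2, 11, false), (1, 10, false), (0, 8, false), (3, 17, false), (2, 16, false), (1, 15, false), (5, 26, false), (4, 25, false), (4, 21, false), (3, 19, false), (2, 18, false), (4, 21, false), (3, 20, false), (2, 19, false), (4, 25, false), (4, 21, false), (3, 19, false), (2, 18, false), (4, 27, false), (3, 23, false), (2, 22, false), (2, 25, false), (2, 17, false), (1, 13, false), (1, 18, false), (2, 11, false), (1, 10, false), (0, 7, false), (1, 18, false), (1, 17, false), (0, 13, false)], [(4, 12, false), (3, 11, false), (2, 10, false), (1, 7, false), (2, 18, false), (2, 27, false)], [(4, 17, false), (3, 16, false), (2, 15, false), (6, 26, false), (5, 25, false), (5, 21, false), (4, 19, false), (3, 18, false)], [(4, 21, false), (3, 20, false), (2, 19, false), (4, 25, false)], [(4, 24, false), (3, 23, false), (2, 22, false), (2, 25, false)], [(4, 26, false), (3, 25, false)], [(4, 27, false)]],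
  [[(3, 6, false), (2, 5, false), (1, 4, false), (0, 2, false), (4, 12, false), (3, 11, false), (2, 9, false), (1, 8, false), (4, 26, false), (3, 25, false), (3, 27, false), (2, 19, false), (5, 27, false), (4, 23, false), (3, 22, false), (3, 25, false), (3, 17, false), (2, 14, false), (3, 21, false), (4, 21, false), (3, 18, false), (3, 24, false), (5, 26, false), (4, 25, false), (4, 12, false), (3, 10, false), (2, 8, false), (1, 7, false), (3, 17, false), (2, 16, false), (1, 15, false), (5, 26, false), (4, 25, false), (4, 21, false), (3, 19, false), (2, 18, false), (4, 21, false), (3, 20, false), (2, 19, false), (4, 25, false), (4, 27, false), (3, 15, false), (2, 14, false), (1, 13, false), (1, 21, false), (2, 24, false), (4, 26, false), (3, 25, false), (3, 27, false), (2, 22, false), (2, 25, false)], [(3, 12, false), (2, 11, false), (1, 10, false), (0, 8, false), (3, 17, false), (2, 16, false), (1, 15, false), (5, 26, false), (4, 25, false), (4, 21, false), (3, 19, false), (2, 18, false), (4, 21, false), (3, 20, false), (2, 19, false), (4, 25, false), (4, 21, false), (3, 19, false), (2, 18, false), (4, 27, false)], [(3,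 17, false), (2, 16, false), (1, 15, false), (0, 13, false), (3, 26, false), (2, 25, false), (2, 21, false), (1, 19, false), (0, 18, false)], [(3, 21, false), (2, 20, false), (1, 19, false), (3, 25, false)], [(3, 24, false), (2, 23, false), (1, 22, false), (1, 25, false)], [(3, 26, false), (2, 25, false)], [(3, 27, false)]],
  [[(4, 6, false), (3, 5, false), (2, 4, false), (1, 2, false), (0, 0, false), (2, 17, false), (1, 15, false), (0, 13, false), (3, 21, false), (2, 20, false), (1, 19, false), (0, 18, false), (1, 25, false), (1, 21, false), (0, 19, false), (3, 26, false), (2, 25, false), (2, 27, false), (1, 10, false), (0, 9, false), (2, 17, false), (1, 16, false), (2, 20, false), (3, 20, false), (2, 18, false), (2, 23, false), (4, 17, false), (3, 16, false), (2, 15, false), (1, 13, false), (4, 26, false), (3, 25, false), (3, 21, false), (2, 19, false), (1, 18, false), (3, 21, false), (2, 20, false), (1, 19, false), (3, 25, false), (3, 24, false), (2, 22, false), (2, 25, false), (2, 26, false), (3, 12, false), (2, 11, false), (1, 9, false), (0, 7, false), (1, 21, false), (0, 20, false), (2, 27, false), (2, 17, false),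 (1, 16, false), (0, 14, false), (1, 26, false), (2, 21, false), (1, 20, false), (3, 24, false), (2, 23, false), (3, 25, false), (3, 26, false), (4, 27, false)], [(4, 12, false), (3, 11, false), (2, 10, false), (1, 8, false), (4, 17, false), (3, 16, false), (2, 15, false), (6, 26, false), (5, 25, false), (5, 21, false), (4, 19, false), (3, 18, false), (5, 21, false), (4, 20, false), (3, 19, false), (5, 25, false), (5, 21, false), (4, 19, false), (3, 18, false), (5, 27, false)], [(4, 17, false), (3, 16, false), (2, 15, false), (1, 13, false), (4, 26, false), (3, 25, false), (3, 21, false), (2, 19, false), (1, 18, false)], [(4, 21, false), (3, 20, false), (2, 19, false), (4, 25, false)], [(4, 24, false), (3, 23, false), (2, 22, false), (2, 25, false)], [(4, 26, false), (3, 25, false)], [(4, 27, false)]],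
  [[(4, 6, false), (3, 5, false), (2, 4, false), (1, 2, false), (0, 1, false), (2, 17, false), (1, 16, false), (2, 20, false), (3, 20, false), (2, 18, false), (2, 25, false), (2, 12, false), (1, 8, false), (4, 27, false), (3, 23, false), (2, 22, false), (2, 25, false), (2, 17, false), (3, 18, false), (4, 11, false), (3, 10, false), (2, 8, false), (1, 7, false), (3, 17, false), (2, 16, false), (1, 15, false), (5, 26, false), (4, 25, false), (4, 21, false), (3, 19, false), (2, 18, false), (4, 21, false), (3, 20, false), (2, 19, false), (4, 25, false), (4, 21, false), (3, 19, false), (2, 18, false), (4, 27, false), (3, 16, false), (2, 15, false), (1, 13, false), (4, 26, false), (3, 25, false), (3, 24, false), (2, 22, false), (2, 25, false), (2, 26, false), (3, 27, false)], [(4, 12, false), (3, 11, false), (2, 10, false), (1, 8, false), (0, 7, false), (2, 17, false), (1, 16, false), (0, 15, false), (4, 26, false), (3, 25, false), (3, 21, false), (2, 19, false), (1, 18, false), (3, 21, false), (2, 20, false), (1, 19, false), (3, 25, false), (3, 21, false), (2, 19, false), (1, 18, false), (3, 27, false)], [(4, 17, false), (3,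 16, false), (2, 15, false), (1, 13, false), (4, 26, false), (3, 25, false), (3, 21, false), (2, 19, false), (1, 18, false)], [(4, 21, false), (3, 20, false), (2, 19, false), (4, 25, false)], [(4, 24, false), (3, 23, false), (2, 22, false), (2, 25, false)], [(4, 26, false), (3, 25, false)], [(4, 27, false)]],
  [[(5, 6, false), (4, 5, false), (3, 4, false), (2, 2, false), (1, 1, false), (0, 0, false), (2, 26, false), (3, 27, false), (2, 16, false), (1, 15, false), (0, 13, false), (3, 26, false), (2, 25, false), (2, 21, false), (1, 19, false), (0, 18, false), (2, 26, false), (1, 25, false), (1, 27, false), (0, 10, false), (4, 17, false), (3, 15, false), (2, 14, false), (1, 13, false), (1, 21, false), (2, 24, false), (4, 26, false), (3, 25, false), (3, 27, false), (2, 19, false), (1, 18, false), (2, 20, false), (1, 19, false), (3, 25, false), (2, 22, false), (2, 25, false), (1, 9, false), (0, 7, false), (1, 17, false), (0, 16, false), (1, 20, false), (2, 23, false), (3, 25, false)], [(5, 12, false), (4, 11, false), (3, 10, false), (2, 8, false), (1, 7, false), (3, 17, false), (2, 16, false), (1, 15, false), (5, 26, false),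 (4, 25, false), (4, 21, false), (3, 19, false), (2, 18, false), (4, 21, false), (3, 20, false), (2, 19, false), (4, 25, false), (4, 21, false), (3, 19, false), (2, 18, false), (4, 27, false)], [(5, 17, false), (4, 16, false), (3, 15, false), (2, 13, false), (5, 26, false), (4, 25, false), (4, 21, false), (3, 19, false), (2, 18, false)], [(5, 21, false), (4, 20, false), (3, 19, false), (5, 25, false)], [(5, 24, false), (4, 23, false), (3, 22, false), (3, 25, false)], [(5, 26, false), (4, 25, false)], [(5, 27, false)]],
  [[(3, 6, false), (2, 5, false), (1, 4, false), (0, 3, false), (1, 7, false), (2, 17, false), (1, 15, false), (5, 21, false), (4, 20, false), (3, 19, false), (2, 18, false), (3, 25, false), (3, 21, false), (2, 19, false), (5, 24, false), (4, 23, false), (3, 22, false), (3, 25, false), (4, 26, false), (3, 25, false), (3, 12, false), (2, 9, false), (1, 8, false), (4, 26, false), (3, 25, false), (3, 27, false), (3, 17, false), (2, 15, false), (6, 21, false), (5, 20, false), (4, 19, false), (3, 18, false), (4, 25, false), (4, 24, false), (3, 22, false), (3, 25, false), (3, 26, false), (4, 27, false)], [(3, 12,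 false), (2, 11, false), (1, 10, false), (0, 9, false), (2, 17, false), (1, 16, false), (2, 20, false), (3, 20, false), (2, 18, false), (2, 20, false), (4, 27, false)], [(3, 17, false), (2, 16, false), (1, 15, false), (0, 14, false), (1, 21, false), (2, 24, false), (4, 26, false), (3, 25, false), (3, 27, false), (3, 20, false), (2, 19, false), (1, 18, false), (2, 25, false)], [(3, 21, false), (2, 20, false), (1, 19, false), (0, 18, false), (1, 25, false)], [(3, 24, false), (2, 23, false), (1, 22, false), (1, 25, false)], [(3, 26, false), (2, 25, false)], [(3, 27, false)]],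
  [[(4, 6, false), (3, 5, false), (2, 4, false), (1, 3, false), (0, 0, false), (2, 12, false), (1, 10, false), (0, 8, false), (3, 17, false), (2, 16, false), (1, 15, false), (5, 26, false), (4, 25, false), (4, 21, false), (3, 19, false), (2, 18, false), (4, 21, false), (3, 20, false), (2, 19, false), (4, 25, false), (4, 27, false), (3, 10, false), (2, 9, false), (1, 8, false), (0, 7, false), (2, 26, false), (1, 25, false), (1, 27, false), (0, 15, false), (4, 21, false), (3, 20, false), (2, 19, false), (1, 18, false), (2, 25, false), (2, 24, false), (1, 22, false), (1, 25, false), (1, 27, false), (0, 13, false), (2, 11, false), (1, 10, false), (0, 9, false), (2, 17, false), (1, 16, false), (2, 20, false), (3, 20, false), (2, 18, false), (2, 20, false), (4, 17, false), (3, 16, false), (2, 14, false), (1, 13, false), (1, 26, false), (2, 21, false), (1, 20, false), (3, 24, false), (2, 23, false), (3, 25, false), (3, 26, false), (4, 27, false)], [(4, 12, false), (3, 11, false), (2, 10, false), (1, 9, false), (3, 17, false), (2, 16, false), (3, 20, false), (4, 20, false), (3, 18, false), (3, 20, false), (5, 27, false)], [(4,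 17, false), (3, 16, false), (2, 15, false), (1, 14, false), (2, 21, false), (3, 24, false), (5, 26, false), (4, 25, false), (4, 27, false), (4, 20, false), (3, 19, false), (2, 18, false), (3, 25, false)], [(4, 21, false), (3, 20, false), (2, 19, false), (1, 18, false), (2, 25, false)], [(4, 24, false), (3, 23, false), (2, 22, false), (2, 25, false)], [(4, 26, false), (3, 25, false)], [(4, 27, false)]],
  [[(4, 6, false), (3, 5, false), (2, 4, false), (1, 3, false), (0, 1, false), (2, 12, false), (1, 11, false), (3, 27, false), (2, 9, false), (1, 7, false), (2, 24, false), (1, 23, false), (2, 25, false), (2, 27, false), (1, 15, false), (5, 21, false), (4, 20, false), (3, 19, false), (2, 18, false), (3, 25, false), (3, 24, false), (2, 22, false), (2, 25, false), (2, 26, false), (3, 12, false), (2, 11, false), (1, 8, false), (4, 21, false), (3, 20, false), (2, 19, false), (4, 25, false), (4, 27, false), (4, 17, false), (3, 15, false), (2, 14, false), (3, 21, false), (4, 24, false), (6, 26, false), (5, 25, false), (5, 27, false), (4, 19, false), (3, 18, false), (4, 23, false), (3, 22, false), (3, 25, false)], [(4, 12, false),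 (3, 11, false), (2, 10, false), (1, 9, false), (0, 7, false), (1, 17, false), (0, 16, false), (1, 20, false), (2, 20, false), (1, 18, false), (1, 20, false), (3, 27, false)], [(4, 17, false), (3, 16, false), (2, 15, false), (1, 14, false), (2, 21, false), (3, 24, false), (5, 26, false), (4, 25, false), (4, 27, false), (4, 20, false), (3, 19, false), (2, 18, false), (3, 25, false)], [(4, 21, false), (3, 20, false), (2, 19, false), (1, 18, false), (2, 25, false)], [(4, 24, false), (3, 23, false), (2, 22, false), (2, 25, false)], [(4, 26, false), (3, 25, false)], [(4, 27, false)]],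
  [[(5, 6, false), (4, 5, false), (3, 4, false), (2, 3, false), (1, 1, false), (0, 0, false), (2, 26, false), (3, 27, false), (2, 11, false), (1, 10, false), (0, 8, false), (3, 17, false), (2, 16, false), (1, 15, false), (5, 26, false), (4, 25, false), (4, 21, false), (3, 19, false), (2, 18, false), (4, 21, false), (3, 20, false), (2, 19, false), (4, 25, false), (4, 21, false), (3, 19, false), (2, 18, false), (4, 27, false), (3, 11, false), (2, 10, false), (1, 8, false), (0, 7, false), (2, 17, false), (1, 16, false), (0, 15, false), (4, 26, false), (3, 25, false), (3, 21, false), (2, 19, false), (1, 18, false), (3, 21, false), (2, 20, false), (1, 19, false), (3, 25, false), (3, 21, false), (2, 19, false), (1, 18, false), (3, 27, false), (2, 23, false), (1, 22, false), (1, 25, false), (1, 17, false), (0, 13, false), (0, 18, false), (1, 11, false), (0, 10, false), (2, 18, false), (2, 17, false), (1, 13, false)], [(5, 12, false), (4, 11, false), (3, 10, false), (2, 9, false), (1, 7, false), (2, 17, false), (1, 16, false), (2, 20, false), (3, 20, false), (2, 18, false), (2, 20, false), (4, 27, false)], [(5, 17, false), (4,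 16, false), (3, 15, false), (2, 14, false), (3, 21, false), (4, 24, false), (6, 26, false), (5, 25, false), (5, 27, false), (5, 20, false), (4, 19, false), (3, 18, false), (4, 25, false)], [(5, 21, false), (4, 20, false), (3, 19, false), (2, 18, false), (3, 25, false)], [(5, 24, false), (4, 23, false), (3, 22, false), (3, 25, false)], [(5, 26, false), (4, 25, false)], [(5, 27, false)]],
  [[(4, 6, false), (3, 5, false), (2, 4, false), (1, 3, false), (0, 2, false), (4, 12, false), (3, 11, false), (2, 9, false), (1, 8, false), (4, 26, false), (3, 25, false), (3, 27, false), (2, 19, false), (5, 27, false), (4, 11, false), (3, 10, false), (2, 9, false), (1, 7, false), (2, 17, false), (1, 16, false), (2, 20, false), (3, 20, false), (2, 18, false), (2, 20, false), (4, 24, false), (3, 23, false), (4, 25, false), (4, 27, false), (3, 15, false), (2, 14, false), (1, 13, false), (1, 21, false), (2, 24, false), (4, 26, false), (3, 25, false), (3, 27, false), (2, 19, false), (1, 18, false), (2, 23, false), (1, 22, false), (1, 25, false), (1, 11, false), (3, 17, false), (2, 14, false), (3, 21, false), (4, 24, false), (6, 26, false),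 (5, 25, false), (5, 27, false)], [(4, 12, false), (3, 11, false), (2, 10, false), (1, 9, false), (0, 8, false), (3, 26, false), (2, 25, false), (2, 27, false), (1, 15, false), (5, 21, false), (4, 20, false), (3, 19, false), (2, 18, false), (3, 25, false), (3, 21, false), (2, 19, false), (5, 27, false)], [(4, 17, false), (3, 16, false), (2, 15, false), (1, 14, false), (0, 13, false), (0, 21, false), (1, 24, false), (3, 26, false), (2, 25, false), (2, 27, false), (2, 20, false), (1, 19, false), (0, 18, false), (1, 25, false)], [(4, 21, false), (3, 20, false), (2, 19, false), (1, 18, false), (2, 25, false)], [(4, 24, false), (3, 23, false), (2, 22, false), (2, 25, false)], [(4, 26, false), (3, 25, false)], [(4, 27, false)]],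
  [[(5, 6, false), (4, 5, false), (3, 4, false), (2, 3, false), (1, 2, false), (0, 0, false), (2, 17, false), (1, 15, false), (0, 13, false), (3, 21, false), (2, 20, false), (1, 19, false), (0, 18, false), (1, 25, false), (1, 21, false), (0, 19, false), (3, 26, false), (2, 25, false), (2, 27, false), (1, 10, false), (0, 9, false), (2, 17, false), (1, 16, false), (2, 20, false), (3, 20, false), (2, 18, false), (2, 11, false), (1, 8, false), (0, 7, false), (2, 21, false), (1, 20, false), (0, 19, false), (2, 25, false), (2, 27, false), (1, 22, false), (2, 17, false), (1, 16, false), (0, 14, false), (1, 26, false), (2, 21, false), (1, 20, false), (3, 21, false), (2, 20, false), (1, 18, false), (2, 24, false), (1, 23, false), (2, 25, false), (2, 26, false), (3, 12, false), (2, 11, false), (1, 10, false), (0, 8, false), (3, 17, false), (2, 16, false), (1, 15, false), (5, 26, false), (4, 25, false), (4, 21, false), (3, 19, false), (2, 18, false), (4, 21, false), (3, 20, false), (2, 19, false), (4, 25, false), (4, 21, false), (3, 19, false), (2, 18, false), (4, 27, false), (4, 17, false), (3, 16, false), (2, 15, false), (1, 13,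 false), (4, 26, false), (3, 25, false), (3, 21, false), (2, 19, false), (1, 18, false), (3, 24, false), (2, 23, false), (1, 22, false), (1, 25, false), (2, 26, false), (1, 25, false), (1, 27, false)], [(5, 12, false), (4, 11, false), (3, 10, false), (2, 9, false), (1, 8, false), (4, 26, false), (3, 25, false), (3, 27, false), (2, 15, false), (6, 21, false), (5, 20, false), (4, 19, false), (3, 18, false), (4, 25, false), (4, 21, false), (3, 19, false), (6, 27, false)], [(5, 17, false), (4, 16, false), (3, 15, false), (2, 14, false), (1, 13, false), (1, 21, false), (2, 24, false), (4, 26, false), (3, 25, false), (3, 27, false), (3, 20, false), (2, 19, false), (1, 18, false), (2, 25, false)], [(5, 21, false), (4, 20, false), (3, 19, false), (2, 18, false), (3, 25, false)], [(5, 24, false), (4, 23, false), (3, 22, false), (3, 25, false)], [(5, 26, false), (4, 25, false)], [(5, 27, false)]],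
  [[(5, 6, false), (4, 5, false), (3, 4, false), (2, 3, false), (1, 2, false), (0, 1, false), (2, 17, false), (1, 16, false), (2, 20, false), (3, 20, false), (2, 18, false), (2, 25, false), (2, 12, false), (1, 8, false), (4, 27, false), (3, 11, false), (2, 10, false), (1, 7, false), (2, 18, false), (2, 24, false), (4, 27, false), (3, 16, false), (2, 15, false), (1, 13, false), (4, 26, false), (3, 25, false), (3, 21, false), (2, 19, false), (1, 18, false), (3, 24, false), (2, 23, false), (1, 22, false), (1, 25, false), (2, 26, false), (1, 25, false), (1, 12, false), (2, 17, false)], [(5, 12, false), (4, 11, false), (3, 10, false), (2, 9, false), (1, 8, false), (0, 7, false), (2, 26, false), (1, 25, false), (1, 27, false), (0, 15, false), (4, 21, false), (3, 20, false), (2, 19, false), (1, 18, false), (2, 25, false), (2, 21, false), (1, 19, false), (4, 27, false)], [(5, 17, false), (4, 16, false), (3, 15, false), (2, 14, false), (1, 13, false), (1, 21, false), (2, 24, false), (4, 26, false), (3, 25, false), (3, 27, false), (3, 20, false), (2, 19, false), (1, 18, false), (2, 25, false)], [(5, 21, false), (4, 20, false), (3,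 19, false), (2, 18, false), (3, 25, false)], [(5, 24, false), (4, 23, false), (3, 22, false), (3, 25, false)], [(5, 26, false), (4, 25, false)], [(5, 27, false)]],
  [[(6, 6, false), (5, 5, false), (4, 4, false), (3, 3, false), (2, 2, false), (1, 1, false), (0, 0, false), (2, 26, false), (3, 27, false), (2, 16, false), (1, 15, false), (0, 13, false), (3, 26, false), (2, 25, false), (2, 21, false), (1, 19, false), (0, 18, false), (2, 26, false), (1, 25, false), (1, 27, false), (0, 10, false), (2, 9, false), (1, 8, false), (0, 7, false), (2, 26, false), (1, 25, false), (1, 27, false), (0, 22, false), (1, 17, false), (0, 16, false), (1, 20, false), (2, 20, false), (1, 18, false), (1, 23, false), (2, 25, false), (1, 10, false), (0, 8, false), (3, 17, false), (2, 16, false), (1, 15, false), (5, 26, false), (4, 25, false), (4, 21, false), (3, 19, false), (2, 18, false), (4, 21, false), (3, 20, false), (2, 19, false), (4, 25, false), (4, 17, false), (3, 15, false), (2, 14, false), (1, 13, false), (1, 21, false), (2, 24, false), (4, 26, false), (3, 25, false), (3, 27, false), (2, 19, false), (1, 18, false), (2, 23, false), (1,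 22, false), (1, 25, false)], [(6, 12, false), (5, 11, false), (4, 10, false), (3, 9, false), (2, 8, false), (1, 7, false), (3, 26, false), (2, 25, false), (2, 27, false), (1, 15, false), (5, 21, false), (4, 20, false), (3, 19, false), (2, 18, false), (3, 25, false), (3, 21, false), (2, 19, false), (5, 27, false)], [(6, 17, false), (5, 16, false), (4, 15, false), (3, 14, false), (2, 13, false), (2, 21, false), (3, 24, false), (5, 26, false), (4, 25, false), (4, 27, false), (4, 20, false), (3, 19, false), (2, 18, false), (3, 25, false)], [(6, 21, false), (5, 20, false), (4, 19, false), (3, 18, false), (4, 25, false)], [(6, 24, false), (5, 23, false), (4, 22, false), (4, 25, false)], [(6, 26, false), (5, 25, false)], [(6, 27, false)]]]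

end Cfsg.Agent.Lib.M23H2
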