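import Cfsg.Agent.Lib.M23H2.Split
import Cfsg.Agent.Lib.M23Ext.Cert

/-!
A quotient of the binary words on which the certificate system acts, and the normalised lifts of
the generators in an extension of the point stabiliser by it.
-/

set_option autoImplicit false

namespace Cfsg.Agent.Lib.M23H2

open Cfsg Finset
open Cfsg.Agent.Lib.Golay (combine gperm okCode permMask wordOfMask oneCode)
open Cfsg.Agent.Lib.Computation (mulP)

/-- Binary words on the points. -/
abbrev Word : Type := GolayPt → ZMod 2

theorem zmod2_cases (c : ZMod 2) : c = 0 ∨ c = 1 := by revert c; decide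

theorem neg_eq_self_W (w : Word) : -w = w := funext fun p => CharTwo.neg_eq (w p)

theorem smul_mem {K : AddSubgroup Word} (c : ZMod 2) {w : Word} (h : w ∈ K) : c • w ∈ K := by
  rcases zmod2_cases c with rfl | rfl
  · rw [zero_smul]; exact K.zero_mem
  · rw [one_smul]; exact h

/-- The word with given coordinates in the chosen basis. -/
def vword (B : List ℕ) (u : V) : Word := ∑ i : Fin 11, u i • wordOfMask (B.getD i 0)

theorem vword_zero (B : List ℕ) : vword B 0 = 0 := by simp [vword]

theorem vword_add (B : List ℕ) (a b : V) : vword B (a + b) = vword B a + vword B b := by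
  simp [vword, add_smul, Finset.sum_add_distrib]

theorem wordOfMask_combine {B : List ℕ} (hB : B.length = 11) (m : ℕ) :
    wordOfMask (combine B m) = vword B fun i => bv m i := by
  rw [map_combine (fun k => wordOfMask k) Golay.wordOfMask_zero
    (fun a b => Golay.wordOfMask_xor a b) B m, hB, vword, ← Fin.sum_univ_eq_sum_range]

theorem exists_bv (v : V) : ∃ m < 2 ^ 11, (fun i : Fin 11 => bv m i) = v := by
  have hinj : Function.Injective (fun m : Fin (2 ^ 11) => fun i : Fin 11 => bv m.val i) := by
    intro a b h
    refine Fin.ext (Nat.eq_of_testBit_eq fun i => ?_)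
    by_cases hi : i < 11
    · have := congrFun h ⟨i, hi⟩
      simp only [bv] at this
      revert this
      cases a.val.testBit i <;> cases b.val.testBit i <;> decide
    · have h2 : 2 ^ 11 ≤ 2 ^ i := Nat.pow_le_pow_right (by norm_num) (Nat.le_of_not_lt hi)
      rw [Nat.testBit_lt_two_pow (a.isLt.trans_le h2), Nat.testBit_lt_two_pow (b.isLt.trans_le h2)]
  have hsurj := (Fintype.bijective_iff_injective_and_card _).mpr
    ⟨hinj, by simp [Fintype.card_fun, ZMod.card]⟩
  obtain ⟨m, hm⟩ := hsurj.2 v
  exact ⟨m, m.isLt, hm⟩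

/-- The checks of the action of a system on a module given by a test of masks. -/
def actionOK (S : Sys) (B codes invs : List ℕ) (cols : List (List ℕ)) (inK : ℕ → Bool) : Bool :=
  (List.range S.ng).all fun g =>
    Golay.inM24 (invs.getD g 0) &&
      Nat.beq (mulP 24 5 (codes.getD g oneCode) (invs.getD g 0)) oneCode &&
      (List.range 11).all fun j =>
        inK (permMask (invs.getD g 0) (B.getD j 0) ^^^ combine B ((cols.getD g []).getD j 0)) &&
          (List.range 11).all fun i =>
            ((cols.getD g []).getD j 0).testBit i == ((S.rows.getD g []).getD i 0).testBit j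

/-- The action of the system is the action of the permutations, modulo a subgroup of words. -/
theorem action_spec {S : Sys} {B codes invs : List ℕ} {cols : List (List ℕ)} {inK : ℕ → Bool}
    (hp : permsOK S codes = true) (hB : B.length = 11)
    (h : actionOK S B codes invs cols inK = true) {K : AddSubgroup Word}
    (hK : ∀ m, inK m = true → wordOfMask m ∈ K) {g : ℕ} (hg : g < S.ng) (u : V) :
    (vword B u ∘ ⇑(gperm (codes.getD g oneCode))) - vword B (S.act g u) ∈ K := by
  have h' := List.all_eq_true.mp h g (List.mem_range.mpr hg)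
  simp only [Bool.and_eq_true, List.all_eq_true, List.mem_range, Nat.beq_eq, beq_iff_eq] at h'
  obtain ⟨⟨hci, hmul⟩, hj⟩ := h'
  have hc := (permsOK_mem hp g).1
  have hci' := Golay.okCode_of_inM24 hci
  have hinv : gperm (invs.getD g 0) = (gperm (codes.getD g oneCode))⁻¹ := by
    refine eq_inv_of_mul_eq_one_right ?_
    rw [← Golay.gperm_mul hc hci', hmul, Golay.gperm_oneCode]
  have hmv : ∀ m, wordOfMask m ∘ ⇑(gperm (codes.getD g oneCode)) =
      wordOfMask (permMask (invs.getD g 0) m) := by
    intro m
    rw [← M23Ext.mv_gperm hci', hinv]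
    funext p
    simp [M23Ext.mv]
  have hrow : ∀ i : Fin 11, S.act g u i =
      ∑ j : Fin 11, u j * bv ((cols.getD g []).getD j 0) i := by
    intro i
    rw [Sys.act, dot, ← Fin.sum_univ_eq_sum_range]
    refine Finset.sum_congr rfl fun j _ => ?_
    rw [ext_val, mul_comm, bv, bv, (hj j j.isLt).2 i i.isLt]
  have e : (vword B u ∘ ⇑(gperm (codes.getD g oneCode))) - vword B (S.act g u) =
      ∑ j : Fin 11, u j • wordOfMask (permMask (invs.getD g 0) (B.getD j 0) ^^^
        combine B ((cols.getD g []).getD j 0)) := by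
    have e1 : vword B u ∘ ⇑(gperm (codes.getD g oneCode)) =
        ∑ j : Fin 11, u j • wordOfMask (permMask (invs.getD g 0) (B.getD j 0)) := by
      funext p
      simp only [Function.comp_apply, vword, Finset.sum_apply, Pi.smul_apply]
      refine Finset.sum_congr rfl fun j _ => ?_
      rw [← hmv]
      rfl
    have e2 : vword B (S.act g u) =
        ∑ j : Fin 11, u j • wordOfMask (combine B ((cols.getD g []).getD j 0)) := by
      simp only [wordOfMask_combine hB, vword, hrow, Finset.sum_smul, Finset.smul_sum, smul_smul]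
      exact Finset.sum_comm
    rw [e1, e2, sub_eq_add_neg, neg_eq_self_W, ← Finset.sum_add_distrib]
    refine Finset.sum_congr rfl fun j _ => ?_
    rw [Golay.wordOfMask_xor, smul_add]
  rw [e]
  exact AddSubgroup.sum_mem _ fun j _ => smul_mem _ (hK _ (hj j j.isLt).1)

section ext

variable {E : Type*} [Group E] (N : Subgroup E) [N.Normal] (φ : E ⧸ N ≃* ↥Spor.M23)

/-- The action of an extension on the points. -/
def proj : E →* Equiv.Perm GolayPt :=
  Spor.M23.subtype.comp (φ.toMonoidHom.comp (QuotientGroup.mk' N))

theorem proj_apply (e : E) : proj N φ e = ((φ (QuotientGroup.mk e) : ↥Spor.M23) : Equiv.Perm GolayPt) :=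
  rfl

theorem proj_range : (proj N φ).range = Spor.M23 := by
  ext σ
  constructor
  · rintro ⟨e, rfl⟩
    exact (φ (QuotientGroup.mk e)).2
  · intro h
    obtain ⟨e, he⟩ := QuotientGroup.mk_surjective (φ.symm ⟨σ, h⟩)
    exact ⟨e, by rw [proj_apply, he, MulEquiv.apply_symm_apply]⟩

theorem proj_ker : (proj N φ).ker = N := by
  ext e
  rw [MonoidHom.mem_ker, proj_apply, ← Subgroup.coe_one, ← Subtype.ext_iff, MulEquiv.map_eq_one_iff,
    QuotientGroup.eq_one_iff]

end ext

/-- The certificate of a module. -/
structure Cert (S : Sys) (codes : List ℕ) (kst : ℕ) where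
  P : List ℕ
  Mr : List ℕ
  loops : List Loop
  targets : List Target
  perms : permsOK S codes = true
  tabs : S.tabsOK = true
  rules : S.rulesOK = true
  gauge : S.gaugeOK P Mr = true
  loopsOK : ∀ l ∈ loops, S.loopOK l = true
  targetsOK : targetsOK S.nt kst (loops.flatMap Loop.rows ++ P.map (2 ^ ·)) targets = true
  rangeP : P.all (fun p => Nat.blt p S.nt) = true

/-- The value prescribed for a coordinate of normalised tails. -/
def Cert.value {S : Sys} {codes : List ℕ} {kst : ℕ} (C : Cert S codes kst) (f : ℕ → ZMod 2) : Prop :=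
  (∀ t ∈ C.P, f t = 0) ∧ ∀ p ∈ C.targets, f p.1 = if p.2.1 then f kst else 0

/-- Normalised lifts. -/
theorem exists_normal {E : Type*} [Group E] {S : Sys} {codes : List ℕ} {kst : ℕ}
    (C : Cert S codes kst) (π : E →* Equiv.Perm GolayPt) (hπ : π.range = Spor.M23) {ι : V → E}
    (hinj : Function.Injective ι) (hadd : ∀ a b, ι (a + b) = ι a * ι b)
    (hι : ∀ k, k ∈ π.ker ↔ ∃ u, ι u = k)
    (hcomm : ∀ g < S.ng, ∀ (x : E) (u : V), π x = gperm (codes.getD g oneCode) →
      ι u * x = x * ι (S.act g u)) :
    ∃ (x : ℕ → E) (f : ℕ → ZMod 2), Real S ι x ∧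
      (∀ g, π (x g) = gperm (codes.getD g oneCode)) ∧ Tails S ι x f ∧ C.value f := by
  classical
  choose x hx using fun g => show ∃ e, π e = gperm (codes.getD g oneCode) from
    MonoidHom.mem_range.mp (hπ ▸ (permsOK_mem C.perms g).2)
  have hR : Real S ι x := ⟨C.tabs, C.rules, hadd, fun g hg u => hcomm g hg _ u (hx g)⟩
  have hπw : ∀ w, π (wp x w) = gperm (wordCode codes w) := by
    intro w
    rw [(wordCode_spec C.perms w).2, wp, wp, map_list_prod, List.map_map]
    exact congrArg List.prod (List.map_congr_left fun g _ => hx g)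
  have hc : ∀ r, ∃ u : V, r < S.rules.length →
      wp x (S.rules.getD r ([], [])).1 = wp x (S.rules.getD r ([], [])).2 * ι u := by
    intro r
    by_cases hr : r < S.rules.length
    · have hp := C.perms
      simp only [permsOK, Bool.and_eq_true, List.all_eq_true, Nat.beq_eq] at hp
      have e := hp.2 (S.rules.getD r ([], [])) (by
        rw [List.getD_eq_getElem _ _ hr]; exact List.getElem_mem _)
      obtain ⟨u, hu⟩ := (hι ((wp x (S.rules.getD r ([], [])).2)⁻¹ *
        wp x (S.rules.getD r ([], [])).1)).mp (by
        rw [MonoidHom.mem_ker, map_mul, map_inv, hπw, hπw, e, inv_mul_cancel])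
      exact ⟨u, fun _ => by rw [hu, mul_inv_cancel_left]⟩
    · exact ⟨0, fun h => absurd h hr⟩
  choose c hc using hc
  let f : ℕ → ZMod 2 := fun t => ext (c (t / 11)) (t % 11)
  have hf : Tails S ι x f := by
    intro r hr
    have : slice f r = c r := funext fun i => by
      have h1 : (11 * r + i.val) / 11 = r := by omega
      have h2 : (11 * r + i.val) % 11 = i.val := by omega
      simp only [slice, f, h1, h2, ext_val]
    rw [this]
    exact hc r hr
  obtain ⟨μ, hR', hf', hP⟩ := hR.exists_gauge hf C.gauge
  refine ⟨_, _, hR', fun g => ?_, hf', hP, fun p hp => target_spec C.targetsOK ?_ hp⟩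
  · have hk : ι (slice μ g) ∈ π.ker := (hι _).mpr ⟨_, rfl⟩
    rw [map_mul, (MonoidHom.mem_ker (f := π)).mp hk, mul_one, hx]
  · intro r hr
    rcases List.mem_append.mp hr with h | h
    · obtain ⟨l, hl, hrl⟩ := List.mem_flatMap.mp h
      exact hR'.loop hinj hf' (C.loopsOK l hl) r hrl
    · obtain ⟨t, ht, rfl⟩ := List.mem_map.mp h
      have htn := List.all_eq_true.mp C.rangeP t ht
      rw [Nat.blt_eq] at htn
      rw [dot_two_pow htn, hP t ht]

end Cfsg.Agent.Lib.M23H2
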