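import Cfsg.Agent.Lib.M23H2.Basic
import Cfsg.Agent.Lib.Golay.Perm
import Cfsg.Agent.Lib.Golay.Simple
import Cfsg.Agent.Lib.Cores.Gaschutz
import Cfsg.Prelude.Def_Spor_Mathieu

/-!
Existence of a complement from vanishing tails on the relations of a Sylow 2-subgroup.
-/

set_option autoImplicit false

namespace Cfsg.Agent.Lib.M23H2

open Cfsg
open Cfsg.Agent.Lib.Golay (gperm okCode inM24 oneCode)
open Cfsg.Agent.Lib.Computation (getW mulP)

/-- The code of the product of a word of codes. -/
def wordCode (codes : List ℕ) : List ℕ → ℕ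
  | [] => oneCode
  | g :: v => mulP 24 5 (codes.getD g oneCode) (wordCode codes v)

/-- The checks of the generator codes: they are in the point stabiliser, and the rules hold. -/
def permsOK (S : Sys) (codes : List ℕ) : Bool :=
  Nat.beq codes.length S.ng &&
    (codes.all fun c => inM24 c && Nat.beq (getW 5 c 23) 23) &&
    S.rules.all fun p => Nat.beq (wordCode codes p.1) (wordCode codes p.2)

theorem permsOK_mem {S : Sys} {codes : List ℕ} (h : permsOK S codes = true) (g : ℕ) :
    okCode (codes.getD g oneCode) = true ∧ gperm (codes.getD g oneCode) ∈ Spor.M23 := by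
  by_cases hg : g < codes.length
  · simp only [permsOK, Bool.and_eq_true, List.all_eq_true, Nat.beq_eq] at h
    obtain ⟨hin, h23⟩ := h.1.2 (codes.getD g oneCode) (by
      rw [List.getD_eq_getElem _ _ hg]; exact List.getElem_mem hg)
    have hok := Golay.okCode_of_inM24 hin
    refine ⟨hok, Golay.gperm_mem_M24 hin, Golay.idx_injective ?_⟩
    show Golay.idx (gperm (codes.getD g oneCode) none) = Golay.idx none
    rw [Golay.idx_gperm hok]
    exact h23
  · rw [List.getD_eq_default _ _ (Nat.le_of_not_lt hg), Golay.gperm_oneCode]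
    exact ⟨Golay.okCode_oneCode, one_mem _⟩

theorem wordCode_spec {S : Sys} {codes : List ℕ} (h : permsOK S codes = true) :
    ∀ w : List ℕ, okCode (wordCode codes w) = true ∧
      gperm (wordCode codes w) = wp (fun g => gperm (codes.getD g oneCode)) w
  | [] => ⟨Golay.okCode_oneCode, by simp [wordCode, wp, Golay.gperm_oneCode]⟩
  | g :: v => by
    have h1 := (permsOK_mem h g).1
    obtain ⟨h2, h3⟩ := wordCode_spec h v
    exact ⟨Golay.okCode_mulP h1 h2, by rw [wordCode, Golay.gperm_mul h1 h2, wp_cons, h3]⟩

/-- The result of a derivation by the first `RS` rules. -/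
def Sys.path (S : Sys) (RS : ℕ) : List ℕ → List Step → Option (List ℕ)
  | w, [] => some w
  | w, s :: ss =>
    bif Nat.blt s.2.1 RS then
      match S.stepWord w s with
      | none => none
      | some w' => S.path RS w' ss
    else none

/-- The table of the elements of the subgroup generated by the first `nS` generators. -/
def Sys.tableOK (S : Sys) (codes : List ℕ) (nS RS : ℕ) (W : List (List ℕ))
    (T : List (List (List Step))) : Bool :=
  Nat.beq W.length 128 && Nat.ble nS S.ng && W.contains [] &&
    decide ((W.map fun w => (List.range 24).map (getW 5 (wordCode codes w))).Nodup) &&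
    (W.all fun w => w.all fun g => Nat.blt g nS) &&
    (List.range W.length).all fun e => (List.range nS).all fun g =>
      match S.path RS (W.getD e [] ++ [g]) ((T.getD e []).getD g []) with
      | none => false
      | some w' => W.contains w'

variable {E : Type*} [Group E] {S : Sys} {ι : V → E} {x : ℕ → E}

theorem path_spec {f : ℕ → ZMod 2} (hR : Real S ι x) (hf : Tails S ι x f) {RS : ℕ}
    (h0 : ∀ r < RS, slice f r = 0) : ∀ (ss : List Step) (w w' : List ℕ),
    S.wordOK w = true → S.path RS w ss = some w' → wp x w = wp x w'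
  | [], w, w', _, h => by simp only [Sys.path, Option.some.injEq] at h; rw [h]
  | s :: ss, w, w', hw, h => by
    simp only [Sys.path] at h
    cases hb : Nat.blt s.2.1 RS
    · rw [hb] at h; simp at h
    rw [hb, cond_true] at h
    split at h
    · simp at h
    next w₁ h1 =>
    rw [← path_spec hR hf h0 ss w₁ w' (stepWord_ok hR.rules h1 hw) h, hR.step hf h1 hw,
      h0 _ (Nat.blt_eq.mp hb)]
    have : S.actW (w.drop (s.1 + (S.sides s).1.length)) 0 = 0 := funext fun i => by
      simp [Sys.actW, dot, ext]
    rw [this, hR.zero, mul_one]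

/-- Vanishing tails on the relations of the Sylow 2-subgroup give a complement. -/
theorem split_of_zero [Finite E] (π : E →* Equiv.Perm GolayPt) (hπ : π.range = Spor.M23)
    {codes : List ℕ} (hp : permsOK S codes = true) (hR : Real S ι x)
    (hinj : Function.Injective ι) (hι : ∀ k, k ∈ π.ker ↔ ∃ u, ι u = k)
    (hx : ∀ g, π (x g) = gperm (codes.getD g oneCode))
    {f : ℕ → ZMod 2} (hf : Tails S ι x f) {nS RS : ℕ} {W : List (List ℕ)}
    {T : List (List (List Step))} (hT : S.tableOK codes nS RS W T = true)
    (h0 : ∀ r < RS, slice f r = 0) :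
    ∃ H : Subgroup E, Subgroup.IsComplement' π.ker H := by
  classical
  simp only [Sys.tableOK, Bool.and_eq_true, List.all_eq_true, List.mem_range, Nat.beq_eq,
    Nat.ble_eq, List.contains_iff_mem, decide_eq_true_eq, Nat.blt_eq] at hT
  obtain ⟨⟨⟨⟨⟨hlen, hns⟩, hnil⟩, hnd⟩, hW⟩, htab⟩ := hT
  let C : Set E := {y | ∃ w ∈ W, y = wp x w}
  let A : Subgroup E := Subgroup.closure (x '' {g | g < nS})
  have hok : ∀ w ∈ W, ∀ g, g < nS → S.wordOK (w ++ [g]) = true := by
    intro w hw g hg
    simp only [Sys.wordOK, List.all_eq_true, List.mem_append, Nat.blt_eq, List.mem_singleton]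
    rintro a (ha | rfl)
    · exact lt_of_lt_of_le (hW w hw a ha) hns
    · omega
  have hstep : ∀ g < nS, ∀ y ∈ C, y * x g ∈ C := by
    rintro g hg y ⟨w, hw, rfl⟩
    obtain ⟨e, he, rfl⟩ := List.getElem_of_mem hw
    have h := htab e he g hg
    split at h
    · simp at h
    next w' hp' =>
    rw [List.getD_eq_getElem _ _ he] at hp'
    refine ⟨w', List.contains_iff_mem.mp h, ?_⟩
    rw [← path_spec hR hf h0 _ _ _ (hok _ hw g hg) hp', wp_append, wp_cons]
    simp [wp]
  have hA : ∀ y ∈ A, y ∈ C := by
    have hinvC : ∀ g < nS, ∀ y ∈ C, y * (x g)⁻¹ ∈ C := by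
      intro g hg y hy
      have : (fun z => z * x g) '' C = C :=
        Set.eq_of_subset_of_ncard_le (by rintro _ ⟨z, hz, rfl⟩; exact hstep g hg z hz)
          (by rw [Set.ncard_image_of_injective _ fun a b h => mul_right_cancel h])
      obtain ⟨z, hz, rfl⟩ := this.symm ▸ hy
      rwa [mul_inv_cancel_right]
    intro y hy
    suffices ∀ z ∈ C, z * y ∈ C by
      simpa using this 1 ⟨[], hnil, by simp [wp]⟩
    induction hy using Subgroup.closure_induction'' with
    | mem a ha => obtain ⟨g, hg, rfl⟩ := ha; exact hstep g hg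
    | inv_mem a ha => obtain ⟨g, hg, rfl⟩ := ha; exact hinvC g hg
    | one => intro z hz; rwa [mul_one]
    | mul a b _ _ ha hb => intro z hz; rw [← mul_assoc]; exact hb _ (ha z hz)
  have hAC : ∀ w ∈ W, wp x w ∈ A := fun w hw =>
    list_prod_mem fun y hy => by
      obtain ⟨g, hg, rfl⟩ := List.mem_map.mp hy
      exact Subgroup.subset_closure ⟨g, hW w hw g hg, rfl⟩
  have hπw : ∀ w, π (wp x w) = gperm (wordCode codes w) := by
    intro w
    rw [(wordCode_spec hp w).2, wp, wp, map_list_prod, List.map_map]
    exact congrArg List.prod (List.map_congr_left fun g _ => hx g)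
  -- the words give different permutations
  have hgp : ∀ a b : ℕ, okCode a = true → okCode b = true → gperm a = gperm b →
      ∀ i < 24, getW 5 a i = getW 5 b i := by
    intro a b ha hb h i hi
    rw [← Golay.idx_pt hi, ← Golay.idx_gperm ha, h, Golay.idx_gperm hb]
  have hdist : ∀ v ∈ W, ∀ w ∈ W, π (wp x v) = π (wp x w) → v = w := by
    intro v hv w hw h
    rw [hπw, hπw] at h
    refine List.inj_on_of_nodup_map hnd hv hw (List.map_congr_left fun i hi => ?_)
    exact hgp _ _ (wordCode_spec hp v).1 (wordCode_spec hp w).1 h i (List.mem_range.mp hi)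
  have hd : A ⊓ π.ker = ⊥ := by
    rw [eq_bot_iff]
    rintro y ⟨hy, hy'⟩
    obtain ⟨w, hw, rfl⟩ := hA y hy
    have : w = [] := hdist w hw [] hnil (by
      rw [(MonoidHom.mem_ker (f := π)).mp hy']; simp [wp])
    subst this
    simp [wp]
  have hcard : Nat.card (A.map π) = 128 := by
    have e : ((A.map π : Subgroup _) : Set (Equiv.Perm GolayPt)) =
        ↑((W.map fun w => π (wp x w)).toFinset) := by
      ext y
      simp only [Subgroup.coe_map, Set.mem_image, SetLike.mem_coe, List.mem_toFinset, List.mem_map,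
        List.coe_toFinset, Set.mem_setOf_eq]
      constructor
      · rintro ⟨z, hz, rfl⟩
        obtain ⟨w, hw, rfl⟩ := hA z hz
        exact ⟨w, hw, rfl⟩
      · rintro ⟨w, hw, rfl⟩
        exact ⟨_, hAC w hw, rfl⟩
    rw [← SetLike.coe_sort_coe, e, Nat.card_eq_fintype_card]
    simp only [Finset.coe_sort_coe, Fintype.card_coe]
    rw [List.toFinset_card_of_nodup, List.length_map, hlen]
    exact List.Nodup.map_on hdist (List.Nodup.of_map _ hnd)
  let K := π.ker
  have : IsMulCommutative K := ⟨⟨fun a b => Subtype.ext (by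
    obtain ⟨u, hu⟩ := (hι _).mp a.2
    obtain ⟨v, hv⟩ := (hι _).mp b.2
    show (a : E) * b = b * a
    rw [← hu, ← hv, ← hR.add, ← hR.add, add_comm])⟩⟩
  let U : Subgroup E := (A.map π).comap π
  have hKU : K ≤ U := fun k hk => by
    show π k ∈ A.map π
    rw [(MonoidHom.mem_ker (f := π)).mp hk]; exact one_mem _
  have hKA : K ⊔ A = U := by
    apply le_antisymm (sup_le hKU (Subgroup.le_comap_map π A))
    intro u hu
    obtain ⟨a, ha, hau⟩ := Subgroup.mem_map.mp (Subgroup.mem_comap.mp hu)
    have hk : u * a⁻¹ ∈ K := by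
      rw [MonoidHom.mem_ker, map_mul, map_inv, hau, mul_inv_cancel]
    have := Subgroup.mul_mem_sup hk ha
    rwa [inv_mul_cancel_right] at this
  have hcardK : Nat.card K = 2 ^ 11 := by
    have e : Nat.card V = Nat.card K := Nat.card_eq_of_bijective
      (fun u => ⟨ι u, (hι _).mpr ⟨u, rfl⟩⟩)
      ⟨fun a b h => hinj (congrArg Subtype.val h),
        fun k => by obtain ⟨u, hu⟩ := (hι _).mp k.2; exact ⟨u, Subtype.ext hu⟩⟩
    rw [← e, Nat.card_fun, Nat.card_zmod, Nat.card_fin]
  have hidx : U.index = 79695 := by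
    have h1 : U.index = (A.map π).relIndex π.range := Subgroup.index_comap _ _
    have hle : A.map π ≤ π.range := Subgroup.map_le_range π A
    have h2 := Subgroup.relIndex_mul_relIndex ⊥ (A.map π) π.range bot_le hle
    rw [Subgroup.relIndex_bot_left, Subgroup.relIndex_bot_left, hcard, hπ,
      Golay.card_spor_M23] at h2
    rw [h1, hπ]
    omega
  exact Cores.Gaschutz.exists_complement hKU (by rw [hcardK, hidx]; norm_num) hd hKA

end Cfsg.Agent.Lib.M23H2
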